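import Cfsg.Agent.H9.NilHall.Min
import Cfsg.Agent.H10.Factorizable
import Cfsg.Agent.H10.NonFactorizable
import Cfsg.Agent.H73.Conj

/-!
The 2-local subgroups of the minimal configuration.
-/

set_option autoImplicit false
set_option linter.style.haveILetI false
set_option linter.unusedSectionVars false

namespace H9.NilHall

open Subgroup Cfsg

universe u

variable {G : Type u} [Group G] [Finite G] {p : ℕ}

theorem s4_not_nilpotent : ¬ Group.IsNilpotent (Equiv.Perm (Fin 4)) := by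
  intro h
  have hab := (H81.commute_of_coprime_orderOf h (x := (Equiv.swap 0 1 : Equiv.Perm (Fin 4)))
    (y := Equiv.swap 1 2 * Equiv.swap 2 3) (by
      rw [orderOf_eq_prime (p := 2) (by decide) (by decide),
        orderOf_eq_prime (p := 3) (by decide) (by decide)]
      decide)).eq
  revert hab
  decide

theorem sl22_not_nilpotent : ¬ Group.IsNilpotent (Matrix.SpecialLinearGroup (Fin 2) (ZMod 2)) := by
  intro h
  let a : Matrix.SpecialLinearGroup (Fin 2) (ZMod 2) := ⟨!![1, 1; 0, 1], by decide⟩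
  let b : Matrix.SpecialLinearGroup (Fin 2) (ZMod 2) := ⟨!![0, 1; 1, 1], by decide⟩
  letI : DecidableEq (Matrix.SpecialLinearGroup (Fin 2) (ZMod 2)) :=
    inferInstanceAs (DecidableEq {A : Matrix (Fin 2) (Fin 2) (ZMod 2) // A.det = 1})
  haveI : Fact (Nat.Prime 3) := ⟨Nat.prime_three⟩
  haveI : Fact (Nat.Prime 2) := ⟨Nat.prime_two⟩
  have ha : orderOf a = 2 :=
    orderOf_eq_prime (by decide) fun e => absurd (congrArg Subtype.val e) (by decide)
  have hb : orderOf b = 3 :=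
    orderOf_eq_prime (by decide) fun e => absurd (congrArg Subtype.val e) (by decide)
  have hab := (H81.commute_of_coprime_orderOf h (x := a) (y := b) (by rw [ha, hb]; decide)).eq
  revert hab
  decide

theorem Min.not_involves_s4 (m : Min p G) : ¬ Cfsg.Involves (Equiv.Perm (Fin 4)) G := by
  refine m.nil.not_involves m.hp ?_ s4_not_nilpotent
  rw [Nat.card_perm, Nat.card_fin, show Nat.factorial 4 = 2 ^ 3 * 3 from rfl]
  have := m.five
  exact Nat.Coprime.mul_left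
    (((Nat.coprime_primes Nat.prime_two m.hp).mpr (by omega)).pow_left 3)
    ((Nat.coprime_primes Nat.prime_three m.hp).mpr (by omega))

/-- Every proper subgroup is Thompson factorizable for the prime `2`. -/
theorem Min.factorizable (m : Min p G) {L : Subgroup G} (hL : L ≠ ⊤) :
    Cfsg.IsThompsonFactorizable 2 ↥L := by
  haveI := Fact.mk Nat.prime_two
  haveI := m.sol L hL
  haveI := H1.pPrimeCore_normal' 2 L
  rw [H10.isThompsonFactorizable_quotient_iff]
  by_contra hnf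
  set Q := ↥L ⧸ Cfsg.pPrimeCore 2 ↥L
  haveI : Group.IsSolvable Q := Group.isSolvable_of_surjective (QuotientGroup.mk'_surjective _)
  obtain ⟨-, E, -, -, -, hn, ⟨e⟩⟩ := H10.exists_sl2_of_not_factorizable
    (H10.isPSolvable_of_isSolvable (G := Q)) (H10.pPrimeCore_quotient_pPrimeCore) hnf
  have hQ : Nil p Q := (m.nil.subgroup L).of_surjective m.hp _ (QuotientGroup.mk'_surjective _)
  refine hQ.not_involves m.hp ?_ sl22_not_nilpotent ⟨_, _, hn, ⟨e⟩⟩
  have h6 : Nat.card (Matrix.SpecialLinearGroup (Fin 2) (ZMod 2)) = 6 := by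
    rw [Nat.card_eq_fintype_card]; decide
  rw [h6]
  have := m.five
  exact Nat.Coprime.mul_left (m := 2) (n := 3)
    ((Nat.coprime_primes Nat.prime_two m.hp).mpr (by omega))
    ((Nat.coprime_primes Nat.prime_three m.hp).mpr (by omega))

/-- An odd subgroup normalized by a Sylow 2-subgroup of a soluble group lies in the odd core. -/
theorem le_core {L : Type*} [Group L] [Finite L] [Group.IsSolvable L] (T : Sylow 2 L) {D : Subgroup L}
    (hD : Odd (Nat.card D)) (hT : (T : Subgroup L) ≤ normalizer (D : Set L)) :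
    D ≤ Cfsg.pPrimeCore 2 L := by
  haveI := Fact.mk Nat.prime_two
  haveI := H1.pPrimeCore_normal' 2 L
  set f := QuotientGroup.mk' (Cfsg.pPrimeCore 2 L) with hf
  have hfs : Function.Surjective f := QuotientGroup.mk'_surjective _
  haveI : Group.IsSolvable (L ⧸ Cfsg.pPrimeCore 2 L) := Group.isSolvable_of_surjective hfs
  set Q := Cfsg.pCore 2 (L ⧸ Cfsg.pPrimeCore 2 L) with hQ
  haveI := H1.pCore_normal' 2 (L ⧸ Cfsg.pPrimeCore 2 L)
  have hQT : Q ≤ (T : Subgroup L).map f := H1.pCore_le_sylow (T.mapSurjective hfs)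
  have hzero : ∀ z, z ∈ Q → z ∈ D.map f → z = 1 := fun z hz hz' => by
    obtain ⟨i, hi⟩ := H1.isPGroup_pCore 2 (L ⧸ Cfsg.pPrimeCore 2 L) ⟨z, hz⟩
    have h1 : orderOf z ∣ 2 ^ i := orderOf_dvd_of_pow_eq_one (congrArg Subtype.val hi)
    have h2 : orderOf z ∣ Nat.card D :=
      (Subgroup.orderOf_dvd_natCard (D.map f) hz').trans (card_map_dvd D f)
    exact orderOf_eq_one_iff.mp
      (Nat.eq_one_of_dvd_coprimes ((Nat.coprime_two_left.mpr hD).pow_left i) h1 h2)
  intro d hd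
  have hcen : f d ∈ centralizer (Q : Set _) := by
    refine mem_centralizer_iff.mpr fun q hq => ?_
    obtain ⟨t, ht, rfl⟩ := hQT hq
    have h2 : f t * f d * (f t)⁻¹ * (f d)⁻¹ ∈ D.map f := by
      refine ⟨t * d * t⁻¹ * d⁻¹, mul_mem ((mem_normalizer_iff.mp (hT ht) d).mp hd) (inv_mem hd), ?_⟩
      simp
    have h1 : f t * f d * (f t)⁻¹ * (f d)⁻¹ ∈ Q := by
      rw [show f t * f d * (f t)⁻¹ * (f d)⁻¹ = f t * (f d * (f t)⁻¹ * (f d)⁻¹) by group]
      exact mul_mem hq ((inferInstance : Q.Normal).conj_mem _ (inv_mem hq) _)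
    have h3 := hzero _ h1 h2
    exact mul_inv_eq_iff_eq_mul.mp (mul_inv_eq_one.mp h3)
  have hin := H10.centralizer_pCore_le H10.isPSolvable_of_isSolvable
    H10.pPrimeCore_quotient_pPrimeCore hcen
  exact (QuotientGroup.eq_one_iff d).mp (hzero _ hin ⟨d, hd, rfl⟩)

/-- An odd subgroup and a 2-subgroup, each normalized by the other, commute. -/
theorem commute_odd {O R : Subgroup G} (hO : Odd (Nat.card O)) (hR : IsPGroup 2 R)
    (hOR : O ≤ normalizer (R : Set G)) (hRO : R ≤ normalizer (O : Set G)) {o r : G} (ho : o ∈ O)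
    (hr : r ∈ R) : Commute o r := by
  have h1 : o * r * o⁻¹ * r⁻¹ ∈ R :=
    mul_mem ((mem_normalizer_iff.mp (hOR ho) r).mp hr) (inv_mem hr)
  have h2 : o * r * o⁻¹ * r⁻¹ ∈ O := by
    rw [show o * r * o⁻¹ * r⁻¹ = o * (r * o⁻¹ * r⁻¹) by group]
    exact mul_mem ho ((mem_normalizer_iff.mp (hRO hr) _).mp (inv_mem ho))
  obtain ⟨i, hi⟩ := hR ⟨_, h1⟩
  have h3 : o * r * o⁻¹ * r⁻¹ = 1 := orderOf_eq_one_iff.mp (Nat.eq_one_of_dvd_coprimes
    ((Nat.coprime_two_left.mpr hO).pow_left i) (orderOf_dvd_of_pow_eq_one (congrArg Subtype.val hi))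
    (Subgroup.orderOf_dvd_natCard O h2))
  exact mul_inv_eq_iff_eq_mul.mp (mul_inv_eq_one.mp h3)

/-- `N = O (N ∩ K)` with `O` odd moves the 2-subgroups of `N` into `K` by elements of `O`. -/
theorem exists_conj_into {N O K U : Subgroup G} (hO : Odd (Nat.card O)) (hON : O ≤ N)
    (hN : ∀ n ∈ N, ∃ o ∈ O, ∃ x ∈ N ⊓ K, n = o * x) (hU : IsPGroup 2 U) (hUN : U ≤ N) :
    ∃ o ∈ O, ∀ w ∈ U, o * w * o⁻¹ ∈ N ⊓ K := by
  haveI := Fact.mk Nat.prime_two
  set M := N ⊓ K with hM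
  obtain ⟨P⟩ : Nonempty (Sylow 2 M) := inferInstance
  have hidx : ¬ 2 ∣ (M.subgroupOf N).index := by
    have hs : Function.Surjective
        (fun o : O.subgroupOf N ⧸ (M.subgroupOf N).subgroupOf (O.subgroupOf N) =>
          Quotient.liftOn' o (fun z => (QuotientGroup.mk (z : N) : N ⧸ M.subgroupOf N)) (fun a b h => by
            rw [QuotientGroup.leftRel_apply] at h
            exact QuotientGroup.eq.mpr h)) := by
      intro q
      obtain ⟨⟨n, hn⟩, rfl⟩ := QuotientGroup.mk_surjective q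
      obtain ⟨o, ho, x, hx, rfl⟩ := hN n hn
      refine ⟨QuotientGroup.mk (⟨⟨o, hON ho⟩, ho⟩ : O.subgroupOf N), ?_⟩
      refine QuotientGroup.eq.mpr ?_
      show ((⟨o, hON ho⟩ : N)⁻¹ * ⟨o * x, hn⟩ : N) ∈ M.subgroupOf N
      rw [mem_subgroupOf, Subgroup.coe_mul, Subgroup.coe_inv, inv_mul_cancel_left]
      exact hx
    have hinj : Function.Injective
        (fun o : O.subgroupOf N ⧸ (M.subgroupOf N).subgroupOf (O.subgroupOf N) =>
          Quotient.liftOn' o (fun z => (QuotientGroup.mk (z : N) : N ⧸ M.subgroupOf N)) (fun a b h => by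
            rw [QuotientGroup.leftRel_apply] at h
            exact QuotientGroup.eq.mpr h)) := by
      intro a b
      obtain ⟨a, rfl⟩ := QuotientGroup.mk_surjective a
      obtain ⟨b, rfl⟩ := QuotientGroup.mk_surjective b
      intro h
      exact QuotientGroup.eq.mpr (QuotientGroup.eq.mp h : (a : N)⁻¹ * b ∈ M.subgroupOf N)
    intro h2
    rw [index, ← Nat.card_congr (Equiv.ofBijective _ ⟨hinj, hs⟩)] at h2
    have h3 : 2 ∣ Nat.card (O.subgroupOf N) :=
      h2.trans (index_dvd_card ((M.subgroupOf N).subgroupOf (O.subgroupOf N)))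
    rw [Nat.card_congr (subgroupOfEquivOfLe hON).toEquiv] at h3
    exact (Nat.not_even_iff_odd.mpr hO) (even_iff_two_dvd.mpr h3)
  let P₁ := ((P : Subgroup M).map M.subtype).subgroupOf N
  have hP₁ : Nat.card P₁ = 2 ^ (Nat.card N).factorization 2 := by
    rw [Nat.card_congr (subgroupOfEquivOfLe ((map_subtype_le _).trans inf_le_left)).toEquiv, card_subtype,
      P.card_eq_multiplicity, ← (M.subgroupOf N).card_mul_index,
      Nat.card_congr (subgroupOfEquivOfLe (inf_le_left : M ≤ N)).toEquiv,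
      Nat.factorization_mul Nat.card_pos.ne' index_ne_zero_of_finite, Finsupp.add_apply,
      Nat.factorization_eq_zero_of_not_dvd hidx, add_zero]
  let P₂ : Sylow 2 N := Sylow.ofCard P₁ hP₁
  obtain ⟨U₂, hU₂⟩ := (hU.of_equiv (subgroupOfEquivOfLe hUN).symm).exists_le_sylow
  obtain ⟨⟨g, hg⟩, hge⟩ := MulAction.exists_smul_eq N U₂ P₂
  obtain ⟨o, ho, x, hx, hox⟩ := hN g⁻¹ (inv_mem hg)
  refine ⟨o⁻¹, inv_mem ho, fun w hw => ?_⟩
  have h1 : (⟨g, hg⟩ : N) * ⟨w, hUN hw⟩ * (⟨g, hg⟩ : N)⁻¹ ∈ (((⟨g, hg⟩ : N) • U₂ : Sylow 2 N) : Subgroup N) := by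
    rw [Sylow.coe_subgroup_smul]
    exact ⟨_, hU₂ (mem_subgroupOf.mpr hw), rfl⟩
  rw [hge] at h1
  have h2 : g * w * g⁻¹ ∈ M := map_subtype_le _ h1
  have h3 := mul_mem (mul_mem hx h2) (inv_mem hx)
  have e : g = x⁻¹ * o⁻¹ := by rw [← inv_inv g, hox, mul_inv_rev]
  rw [e] at h3
  simpa [mul_assoc] using h3

/-- Two 2-subgroups of `K` with equal images modulo a normalized odd subgroup are conjugate in `K` by it. -/
theorem exists_conj_eq {O K R₁ R₂ : Subgroup G} (hO : Odd (Nat.card O)) (hR₁ : IsPGroup 2 R₁)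
    (hn : R₁ ≤ normalizer (O : Set G)) (h₁ : R₁ ≤ K) (h₂ : R₂ ≤ K) (h₂' : R₂ ≤ R₁ ⊔ O)
    (hR₂ : IsPGroup 2 R₂) (hcard : Nat.card R₂ = Nat.card R₁) :
    ∃ o ∈ O ⊓ K, ∀ w ∈ R₂, o * w * o⁻¹ ∈ R₁ := by
  haveI := Fact.mk Nat.prime_two
  set M := (R₁ ⊔ O) ⊓ K with hM
  have hM₁ : R₁ ≤ M := le_inf le_sup_left h₁
  have hM₂ : R₂ ≤ M := le_inf h₂' h₂
  have hfac : (Nat.card M).factorization 2 ≤ (Nat.card R₁).factorization 2 := by
    have h3 : Nat.card M ∣ Nat.card R₁ * Nat.card O :=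
      (card_dvd_of_le inf_le_left).trans ⟨_, (H10.card_mul_card_inf hn).symm⟩
    calc (Nat.card M).factorization 2 ≤ (Nat.card R₁ * Nat.card O).factorization 2 :=
          (Nat.factorization_le_iff_dvd Nat.card_pos.ne'
            (mul_ne_zero Nat.card_pos.ne' Nat.card_pos.ne')).mpr h3 2
      _ = _ := by
          rw [Nat.factorization_mul Nat.card_pos.ne' Nat.card_pos.ne', Finsupp.add_apply,
            Nat.factorization_eq_zero_of_not_dvd
              (fun h => (Nat.not_even_iff_odd.mpr hO) (even_iff_two_dvd.mpr h)), add_zero]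
  have key : ∀ R : Subgroup G, R ≤ M → IsPGroup 2 R → Nat.card R = Nat.card R₁ →
      ∃ P : Sylow 2 M, (P : Subgroup M) = R.subgroupOf M := by
    intro R hR hRp hRc
    obtain ⟨P, hP⟩ := (hRp.of_equiv (subgroupOfEquivOfLe hR).symm).exists_le_sylow
    refine ⟨P, (eq_of_le_of_card_ge hP ?_).symm⟩
    rw [P.card_eq_multiplicity, Nat.card_congr (subgroupOfEquivOfLe hR).toEquiv, hRc]
    obtain ⟨k, hk⟩ := IsPGroup.iff_card.mp hR₁
    rw [hk] at hfac ⊢
    rw [Nat.prime_two.factorization_pow, Finsupp.single_eq_same] at hfac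
    exact Nat.pow_le_pow_right two_pos hfac
  obtain ⟨P₁, hP₁⟩ := key R₁ hM₁ hR₁ rfl
  obtain ⟨P₂, hP₂⟩ := key R₂ hM₂ hR₂ hcard
  obtain ⟨⟨g, hg⟩, hge⟩ := MulAction.exists_smul_eq M P₂ P₁
  obtain ⟨r, hr, o, ho, hro⟩ : ∃ r ∈ R₁, ∃ o ∈ O, g = r * o := by
    have h : g ∈ ((R₁ ⊔ O : Subgroup G) : Set G) := (mem_inf.mp hg).1
    rw [coe_mul_of_left_le_normalizer_right R₁ O hn] at h
    obtain ⟨r, hr, o, ho, e⟩ := h
    exact ⟨r, hr, o, ho, e.symm⟩
  refine ⟨o, ⟨ho, ?_⟩, fun w hw => ?_⟩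
  · show o ∈ K
    rw [show o = r⁻¹ * g by rw [hro, inv_mul_cancel_left]]
    exact mul_mem (inv_mem (h₁ hr)) (mem_inf.mp hg).2
  have h4 : (⟨g, hg⟩ : M) * ⟨w, hM₂ hw⟩ * (⟨g, hg⟩ : M)⁻¹ ∈
      (((⟨g, hg⟩ : M) • P₂ : Sylow 2 M) : Subgroup M) := by
    rw [Sylow.coe_subgroup_smul]
    exact ⟨⟨w, hM₂ hw⟩, by rw [SetLike.mem_coe, hP₂]; exact hw, rfl⟩
  rw [hge, hP₁] at h4
  have h5 := mul_mem (mul_mem (inv_mem hr) (show g * w * g⁻¹ ∈ R₁ from h4)) hr
  rw [hro] at h5
  simpa [mul_assoc] using h5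

end H9.NilHall
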