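import Mathlib
import Cfsg.Prelude.Def_LocalEven
import Cfsg.Agent.H81.Fitting
import Cfsg.Agent.H1.Cores
import Cfsg.Agent.H10.Offender

/-!
Groups in which the subgroups of order prime to `p` are nilpotent: sections, coprime normalization,
inverted elements.
-/

set_option autoImplicit false
set_option linter.style.haveILetI false

namespace H9.NilHall

open Subgroup

variable {G : Type*} [Group G] [Finite G] {p : ℕ}

/-- Every subgroup of order prime to `p` is nilpotent. -/
def Nil (p : ℕ) (G : Type*) [Group G] : Prop :=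
  ∀ H : Subgroup G, (Nat.card H).Coprime p → Group.IsNilpotent H

omit [Finite G] in
theorem Nil.subgroup (h : Nil p G) (K : Subgroup G) : Nil p K := by
  intro H hH
  haveI := h (H.map K.subtype) (by rwa [card_map_of_injective K.subtype_injective])
  exact Group.nilpotent_of_surjective
    (H.equivMapOfInjective K.subtype K.subtype_injective).symm.toMonoidHom
    (H.equivMapOfInjective K.subtype K.subtype_injective).symm.surjective

/-- A homomorphism onto a group of order prime to `p` is onto on a subgroup of order prime to `p`. -/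
theorem exists_coprime_onto {Q : Type*} [Group Q] [Finite Q] (hp : p.Prime) (f : G →* Q)
    (hf : Function.Surjective f) (hQ : (Nat.card Q).Coprime p) :
    ∃ H : Subgroup G, (Nat.card H).Coprime p ∧ H.map f = ⊤ := by
  classical
  haveI := Fact.mk hp
  obtain ⟨U, hU, hmin⟩ := Set.Finite.exists_minimalFor (fun U : Subgroup G => Nat.card U)
    {U : Subgroup G | U.map f = ⊤} (Set.toFinite _) ⟨⊤, map_top_of_surjective f hf⟩
  refine ⟨U, ?_, hU⟩
  set g : U →* Q := f.comp U.subtype with hg
  have hgs : Function.Surjective g := by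
    intro q
    obtain ⟨u, hu, rfl⟩ := (hU ▸ mem_top q : q ∈ U.map f)
    exact ⟨⟨u, hu⟩, rfl⟩
  have least : ∀ V : Subgroup U, V.map g = ⊤ → V = ⊤ := by
    intro V hV
    have hVU : V.map U.subtype ≤ U := map_subtype_le V
    have h1 := hmin (show V.map U.subtype ∈ {U : Subgroup G | U.map f = ⊤} by
      show (V.map U.subtype).map f = ⊤
      rwa [map_map]) (card_le_of_le hVU)
    have h2 := eq_of_le_of_card_ge hVU h1
    apply map_injective U.subtype_injective
    rw [h2, ← MonoidHom.range_eq_map, range_subtype]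
  have hK : g.ker ≤ frattini U := by
    refine le_iInf₂ fun M hM => ?_
    by_contra hle
    have htop : M ⊔ g.ker = ⊤ := hM.lt_iff.mp (lt_of_le_of_ne le_sup_left fun e => hle (e ▸ le_sup_right))
    apply hM.1
    refine least M ?_
    have h1 : (M ⊔ g.ker).map g = M.map g := by
      rw [Subgroup.map_sup, (Subgroup.map_eq_bot_iff _).mpr le_rfl, sup_bot_eq]
    rw [← h1, htop, map_top_of_surjective g hgs]
  haveI := frattini_nilpotent (G := U)
  haveI : Group.IsNilpotent g.ker := Group.nilpotent_of_surjective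
    (subgroupOfEquivOfLe hK).toMonoidHom (subgroupOfEquivOfLe hK).surjective
  obtain ⟨P⟩ : Nonempty (Sylow p g.ker) := inferInstance
  haveI hPn : (P : Subgroup g.ker).Normal := inferInstance
  haveI : (P : Subgroup g.ker).Characteristic := P.characteristic_of_normal hPn
  set P' := (P : Subgroup g.ker).map g.ker.subtype with hP'
  haveI hP'n : P'.Normal := inferInstance
  have hidx : g.ker.index = Nat.card Q := by
    rw [index_ker, MonoidHom.range_eq_top.mpr hgs, card_top]
  have hc1 : Nat.card P' = Nat.card (P : Subgroup g.ker) := card_map_of_injective g.ker.subtype_injective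
  have hcop : (Nat.card P').Coprime P'.index := by
    obtain ⟨k, hk⟩ := IsPGroup.iff_card.mp P.2
    rw [hc1, hk]
    refine Nat.Coprime.pow_left k ((hp.coprime_iff_not_dvd).mpr ?_)
    have h1 : P'.index = (P : Subgroup g.ker).index * g.ker.index := by
      rw [hP', index_map, ker_subtype, sup_bot_eq, range_subtype]
    rw [h1, hidx]
    intro hd
    rcases hp.dvd_mul.mp hd with h | h
    · exact P.not_dvd_index h
    · exact (hp.coprime_iff_not_dvd.mp hQ.symm) h
  obtain ⟨H, hH⟩ := exists_right_complement'_of_coprime hcop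
  have hHtop : H = ⊤ := by
    refine least H (eq_top_iff.mpr fun q _ => ?_)
    obtain ⟨u, rfl⟩ := hgs q
    obtain ⟨⟨⟨a, ha⟩, ⟨b, hb⟩⟩, hab⟩ := hH.2 u
    refine ⟨b, hb, ?_⟩
    have ha' : g a = 1 := MonoidHom.mem_ker.mp (map_subtype_le _ ha)
    rw [← hab, map_mul, ha', one_mul]
  have hP1 : P' = ⊥ := isComplement'_top_right.mp (hHtop ▸ hH)
  have hP0 : Nat.card (P : Subgroup g.ker) = 1 := by rw [← hc1, hP1, card_bot]
  rw [Nat.coprime_comm, hp.coprime_iff_not_dvd, show Nat.card U = Nat.card g.ker * g.ker.index from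
    g.ker.card_mul_index.symm, hidx]
  intro hd
  rcases hp.dvd_mul.mp hd with h | h
  · exact (P.not_dvd_index) (by
      rw [← (P : Subgroup g.ker).card_mul_index, hP0, one_mul] at h
      exact h)
  · exact (hp.coprime_iff_not_dvd.mp hQ.symm) h

/-- Quotients inherit the property. -/
theorem Nil.of_surjective (h : Nil p G) (hp : p.Prime) {Q : Type*} [Group Q] [Finite Q] (f : G →* Q)
    (hf : Function.Surjective f) : Nil p Q := by
  intro H hH
  let f' : H.comap f →* H := f.subgroupComap H
  have hf' : Function.Surjective f' := fun q => by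
    obtain ⟨g, hg⟩ := hf q
    exact ⟨⟨g, by show f g ∈ H; rw [hg]; exact q.2⟩, Subtype.ext hg⟩
  obtain ⟨U, hU, hUtop⟩ := exists_coprime_onto hp f' hf' hH
  haveI := (h.subgroup (H.comap f)) U hU
  exact Group.nilpotent_of_surjective (f'.comp U.subtype) fun q => by
    obtain ⟨u, hu, hq⟩ := (hUtop ▸ mem_top q : q ∈ U.map f')
    exact ⟨⟨u, hu⟩, hq⟩

/-- Sections of order prime to `p` are nilpotent. -/
theorem Nil.not_involves (h : Nil p G) (hp : p.Prime) {H : Type*} [Group H] [Finite H]
    (hH : (Nat.card H).Coprime p) (hn : ¬ Group.IsNilpotent H) : ¬ Cfsg.Involves H G := by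
  rintro ⟨K, R, hR, ⟨e⟩⟩
  haveI := hR
  have h2 : Nil p (K ⧸ R.subgroupOf K) :=
    (h.subgroup K).of_surjective hp (QuotientGroup.mk' _) (QuotientGroup.mk'_surjective _)
  haveI := h2 ⊤ (by rw [card_top, Nat.card_congr e.toEquiv]; exact hH)
  apply hn
  exact Group.nilpotent_of_surjective (e.toMonoidHom.comp (topEquiv : (⊤ : Subgroup (K ⧸ R.subgroupOf K)) ≃* _).toMonoidHom)
    (e.surjective.comp topEquiv.surjective)

omit [Finite G] in
theorem sq_of_orderOf_two {u : G} (hu : orderOf u = 2) : u * u = 1 := by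
  rw [← sq, ← hu, pow_orderOf_eq_one]

/-- A subgroup of order prime to `p` that is normalized by an element of order prime to `p`, both of
coprime orders, commutes with it. -/
theorem Nil.commute (h : Nil p G) {R : Subgroup G} {y : G} (hR : (Nat.card R).Coprime p)
    (hy : (orderOf y).Coprime p) (hRy : (Nat.card R).Coprime (orderOf y))
    (hn : y ∈ normalizer (R : Set G)) {r : G} (hr : r ∈ R) : Commute r y := by
  set H := zpowers y ⊔ R with hH
  have hle : zpowers y ≤ normalizer (R : Set G) := zpowers_le.mpr hn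
  have hc : Nat.card H ∣ Nat.card (zpowers y) * Nat.card R :=
    ⟨_, (H10.card_mul_card_inf hle).symm⟩
  have hH' : (Nat.card H).Coprime p :=
    Nat.Coprime.coprime_dvd_left hc (by rw [Nat.card_zpowers]; exact Nat.Coprime.mul_left hy hR)
  haveI := h H hH'
  have hc := H81.commute_of_coprime_orderOf (inferInstance : Group.IsNilpotent H)
    (x := ⟨r, mem_sup_right hr⟩) (y := ⟨y, mem_sup_left (mem_zpowers y)⟩)
    (by
      rw [orderOf_mk, orderOf_mk]
      exact hRy.coprime_dvd_left (by rw [← orderOf_mk r hr]; exact orderOf_dvd_natCard _))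
  exact congrArg Subtype.val hc

/-- An element of odd order inverted by an involution has prime power order `p ^ k`. -/
theorem Nil.inverted_ppow (h : Nil p G) (hp : p.Prime) (hp2 : p ≠ 2) {u y : G} (hu : orderOf u = 2)
    (hy : Odd (orderOf y)) (hinv : u * y * u⁻¹ = y⁻¹) : ∃ k : ℕ, orderOf y = p ^ k := by
  set n := orderOf y with hn
  set z := y ^ (p ^ n.factorization p) with hz
  have hzn : orderOf z = n / p ^ n.factorization p := by
    rw [hz, orderOf_pow' y (pow_ne_zero _ hp.ne_zero), ← hn, Nat.gcd_eq_right (Nat.ordProj_dvd n p)]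
  have hzc : (orderOf z).Coprime p := by
    rw [hzn]
    exact ((Nat.coprime_ordCompl hp (orderOf_pos y).ne')).symm
  have hzi : u * z * u⁻¹ = z⁻¹ := by rw [hz, ← conj_pow, hinv, inv_pow]
  have hzodd : Odd (orderOf z) := hy.of_dvd_nat (hzn ▸ Nat.div_dvd_of_dvd (Nat.ordProj_dvd n p))
  have hcm : Commute z u := by
    refine h.commute (R := zpowers z) (by rw [Nat.card_zpowers]; exact hzc)
      (by rw [hu]; exact (Nat.coprime_primes Nat.prime_two hp).mpr hp2.symm)
      (by rw [Nat.card_zpowers, hu]; exact hzodd.coprime_two_right) ?_ (mem_zpowers z)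
    refine mem_normalizer_iff_map_conj_eq.mpr ?_
    rw [MonoidHom.map_zpowers]
    show zpowers (u * z * u⁻¹) = zpowers z
    rw [hzi, zpowers_inv]
  have hz2 : z ^ 2 = 1 := by
    have h1 : z = z⁻¹ := by
      conv_lhs => rw [show z = u * z * u⁻¹ by rw [← hcm.eq, mul_inv_cancel_right]]
      exact hzi
    rw [pow_two]
    nth_rewrite 2 [h1]
    exact mul_inv_cancel z
  have hz1 : z = 1 := orderOf_eq_one_iff.mp (Nat.eq_one_of_dvd_coprimes hzodd.coprime_two_right dvd_rfl
    (orderOf_dvd_of_pow_eq_one hz2))
  obtain ⟨k, -, hk⟩ := (Nat.dvd_prime_pow hp).mp (orderOf_dvd_of_pow_eq_one hz1)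
  exact ⟨k, hk⟩

end H9.NilHall
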