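import Cfsg.Agent.H9.NilHall.Min
import Cfsg.Agent.H11.PConstrained
import Cfsg.Agent.H1.Hall
import Cfsg.Agent.H81.Homes

/-!
A strongly embedded subgroup of the minimal configuration has a nontrivial normal 2-subgroup.
-/

set_option autoImplicit false
set_option linter.style.haveILetI false
set_option linter.unusedSectionVars false

namespace H9.NilHall

open Subgroup Cfsg

universe u

variable {G : Type u} [Group G] [Finite G] {p : ℕ} {X : Subgroup G}

/-- If `O₂(X) = 1` then `X` contains a Sylow `p`-subgroup and controls its fusion. -/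
theorem SE.exists_control (s : SE p G X) (hO : Cfsg.pCore 2 X = ⊥) :
    ∃ T : Sylow p G, (T : Subgroup G) ≤ X ∧
      ∀ y ∈ (T : Subgroup G), ∀ g : G, g * y * g⁻¹ ∈ (T : Subgroup G) →
        ∃ x ∈ X, x * y * x⁻¹ = g * y * g⁻¹ := by
  haveI := Fact.mk s.hp
  haveI := Fact.mk Nat.prime_two
  haveI := s.sol_X
  set K := Cfsg.pPrimeCore p X with hK
  haveI hKn : K.Normal := H1.pPrimeCore_normal' p X
  have hKc : (Nat.card K).Coprime p := H1.card_pPrimeCore_coprime p X
  haveI hKnil : Group.IsNilpotent K := (s.nil.subgroup X) K hKc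
  have hK2 : ¬ 2 ∣ Nat.card K := by
    obtain ⟨Q⟩ : Nonempty (Sylow 2 K) := inferInstance
    haveI : (Q : Subgroup K).Normal := inferInstance
    haveI : (Q : Subgroup K).Characteristic := Q.characteristic_of_normal inferInstance
    have h1 : (Q : Subgroup K).map K.subtype ≤ Cfsg.pCore 2 X := by
      haveI := H1.map_subtype_normal_of_characteristic K (Q : Subgroup K)
      exact H1.le_pCore (Q.2.map _)
    rw [hO, le_bot_iff, map_eq_bot_iff_of_injective _ K.subtype_injective] at h1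
    intro h
    have h2 := Q.not_dvd_index
    rw [h1, index_bot] at h2
    exact h2 h
  obtain ⟨P⟩ : Nonempty (Sylow p X) := inferInstance
  have hP1 : (P : Subgroup X) ≠ ⊥ := by
    intro h
    have hX : K = ⊤ := by
      refine top_le_iff.mp (H1.le_pPrimeCore ?_)
      rw [card_top]
      refine ((s.hp.coprime_iff_not_dvd).mpr fun hd => ?_).symm
      have h2 := P.not_dvd_index
      rw [h, index_bot] at h2
      exact h2 hd
    rw [hX, card_top] at hK2
    exact hK2 (even_iff_two_dvd.mp s.se.2.1)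
  set π := QuotientGroup.mk' K with hπ
  have hπs : Function.Surjective π := QuotientGroup.mk'_surjective K
  haveI : Group.IsSolvable (X ⧸ K) := Group.isSolvable_of_surjective hπs
  have hcore : centralizer (Cfsg.pCore p (X ⧸ K) : Set (X ⧸ K)) ≤ Cfsg.pCore p (X ⧸ K) :=
    H10.centralizer_pCore_le H10.isPSolvable_of_isSolvable (H1.pPrimeCore_quotient_pPrimeCore p)
  have hfree : ¬ Cfsg.Involves (Matrix.SpecialLinearGroup (Fin 2) (ZMod p)) ↥X :=
    fun h => s.toMin.not_involves_sl2 (H6.Involves.of_subgroup X h)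
  have hst : ∀ (N : Subgroup (X ⧸ K)) [N.Normal], IsPGroup p N → Cfsg.IsPStableOn p N :=
    fun N _ hN =>
      H6.isPStableOn_of_free (fun h => hfree (H6.Involves.of_quotient K h)) s.ne_two N hN
  set Z := Cfsg.centerThompsonOf p (P : Subgroup X) with hZ
  have hZP : Z ≤ (P : Subgroup X) := H6.centerThompsonOf_le p _
  have hZn : (Z.map π).Normal := by
    rw [hZ, H6.centerThompsonOf_map (fun x hx h =>
      H79.inf_eq_one_of_coprime hKc P.isPGroup' ((QuotientGroup.eq_one_iff x).mp h) hx),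
      ← Sylow.coe_mapSurjective hπs P]
    exact H6.centerThompsonOf_normal s.ne_two hcore hst (P.mapSurjective hπs)
  set N := normalizer (Z : Set X) with hN
  have hNmap : N.map π = ⊤ := by
    rw [hN, H11.map_normalizer_eq (p := p) π hπs (by rw [hπ, QuotientGroup.ker_mk']; exact hKc) Z
      (P.isPGroup'.to_le hZP)]
    exact normalizer_eq_top_iff.mpr hZn
  have hNK : N ⊔ K = ⊤ := by
    have h := congrArg (Subgroup.comap π) hNmap
    rwa [comap_map_eq, comap_top, hπ, QuotientGroup.ker_mk'] at h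
  have hNidx : ¬ 2 ∣ N.index := by
    have h1 := H10.card_mul_card_inf (H := N) (K := K) (by rw [normalizer_eq_top_iff.mpr hKn]; exact le_top)
    rw [hNK, card_top, ← N.card_mul_index, mul_assoc] at h1
    intro h
    exact hK2 (h.trans ⟨_, (Nat.eq_of_mul_eq_mul_left Nat.card_pos h1).symm⟩)
  -- a four group in `N`
  obtain ⟨a, b, haX, hbX, ha, hb, hab, hne⟩ := s.four
  set V := closure ({(⟨a, haX⟩ : X), ⟨b, hbX⟩} : Set X) with hV
  have hV2 : IsPGroup 2 V := by
    have hcm : Commute (⟨a, haX⟩ : X) ⟨b, hbX⟩ := Subtype.ext hab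
    have hle : zpowers (⟨a, haX⟩ : X) ≤ normalizer ((zpowers (⟨b, hbX⟩ : X) : Subgroup X) : Set X) := by
      rw [zpowers_le]
      refine Cfsg.Comp.mem_normalizer_of_map_conj_eq ?_
      rw [MonoidHom.map_zpowers]
      congr 1
      show (⟨a, haX⟩ : X) * ⟨b, hbX⟩ * (⟨a, haX⟩ : X)⁻¹ = _
      rw [hcm.eq, mul_inv_cancel_right]
    have h2 : ∀ {z : X}, orderOf z = 2 → IsPGroup 2 (zpowers z) := fun {z} hz =>
      IsPGroup.of_card (n := 1) (by rw [Nat.card_zpowers, hz, pow_one])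
    refine ((h2 (z := (⟨a, haX⟩ : X)) (by rw [Subgroup.orderOf_mk]; exact ha)).to_sup_of_normal_right'
      (h2 (z := (⟨b, hbX⟩ : X)) (by rw [Subgroup.orderOf_mk]; exact hb)) hle).to_le ?_
    rw [hV, closure_le]
    rintro z (rfl | rfl)
    · exact mem_sup_left (mem_zpowers _)
    · exact mem_sup_right (mem_zpowers _)
  obtain ⟨S, hS⟩ := hV2.exists_le_sylow
  obtain ⟨Q⟩ : Nonempty (Sylow 2 N) := inferInstance
  let Q' : Sylow 2 X := Sylow.ofCard ((Q : Subgroup N).map N.subtype) (by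
    rw [card_subtype, Q.card_eq_multiplicity, ← N.card_mul_index,
      Nat.factorization_mul Nat.card_pos.ne' index_ne_zero_of_finite, Finsupp.add_apply,
      Nat.factorization_eq_zero_of_not_dvd hNidx, add_zero])
  obtain ⟨g, hg⟩ := MulAction.exists_smul_eq X S Q'
  have hgN : ∀ z ∈ V, g * z * g⁻¹ ∈ N := fun z hz => by
    have h1 : g * z * g⁻¹ ∈ ((g • S : Sylow 2 X) : Subgroup X) := by
      rw [Sylow.coe_subgroup_smul]
      exact ⟨z, hS hz, rfl⟩
    rw [hg] at h1
    exact map_subtype_le _ h1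
  -- `N(Z)` in `G`
  set PG := (P : Subgroup X).map X.subtype with hPG
  set ZG := Cfsg.centerThompsonOf p PG with hZG
  have hZmap : Z.map X.subtype = ZG :=
    H6.centerThompsonOf_map fun x _ h => Subtype.ext h
  have hZne : ZG ≠ ⊥ := by
    rw [← hZmap, Ne, map_eq_bot_iff_of_injective _ X.subtype_injective]
    exact H6.centerThompsonOf_ne_bot P.isPGroup' hP1
  have hZtop : ZG ≠ ⊤ := fun h => by
    have h1 : ZG ≤ X := hZmap ▸ map_subtype_le _
    exact s.se.1 (top_le_iff.mp (h ▸ h1))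
  set Y := normalizer (ZG : Set G) with hY
  have hNY : N.map X.subtype ≤ Y := by
    rw [hY, ← hZmap]; exact le_normalizer_map _
  have hYX : Y ≤ X := by
    refine s.le_of_four (s.toMin.normalizer_ne_top hZne hZtop) (a := g * a * (g : G)⁻¹)
      (b := g * b * (g : G)⁻¹) (H67.invol_conj ha _) (H67.invol_conj hb _)
      (hNY ⟨_, hgN ⟨a, haX⟩ (subset_closure (by simp)), rfl⟩)
      (hNY ⟨_, hgN ⟨b, hbX⟩ (subset_closure (by simp)), rfl⟩)
      (mul_mem (mul_mem g.2 haX) (inv_mem g.2)) (mul_mem (mul_mem g.2 hbX) (inv_mem g.2)) ?_ ?_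
    · exact ((show Commute a b from hab).map (MulAut.conj (g : G)).toMonoidHom).eq
    · intro h
      exact hne (mul_left_cancel (mul_right_cancel h))
  obtain ⟨T, hT⟩ := (P.isPGroup'.map X.subtype).exists_le_sylow
  have hPT : PG = (T : Subgroup G) := by
    rcases hT.eq_or_lt with h | h
    · exact h
    exfalso
    haveI : Group.IsNilpotent (T : Subgroup G) := T.2.isNilpotent
    have h1 : PG.subgroupOf (T : Subgroup G) < ⊤ :=
      lt_top_iff_ne_top.mpr fun h' => h.not_ge (subgroupOf_eq_top.mp h')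
    obtain ⟨x, hx, hxP⟩ := SetLike.exists_of_lt (Group.normalizerCondition_of_isNilpotent _ h1)
    have hxN : (x : G) ∈ normalizer (PG : Set G) := by
      refine Cfsg.Comp.mem_normalizer_of_map_conj_eq ?_
      refine eq_of_le_of_card_ge ?_ (card_map_of_injective (MulAut.conj (x : G)).injective).ge
      rintro _ ⟨y, hy, rfl⟩
      exact (mem_normalizer_iff.mp hx ⟨y, hT hy⟩).mp hy
    have hxX : (x : G) ∈ X := hYX (H6.normalizer_le_normalizer_centerThompsonOf p PG hxN)
    have hlt : (P : Subgroup X) < ((T : Subgroup G) ⊓ X).subgroupOf X := by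
      refine SetLike.lt_iff_le_and_exists.mpr
        ⟨fun y hy => mem_subgroupOf.mpr (mem_inf.mpr ⟨hT ⟨y, hy, rfl⟩, y.2⟩),
        ⟨x, hxX⟩, mem_subgroupOf.mpr (mem_inf.mpr ⟨x.2, hxX⟩),
        fun hc => hxP (mem_subgroupOf.mpr ⟨_, hc, rfl⟩)⟩
    exact hlt.ne (P.is_maximal'
      ((T.2.to_le inf_le_left).of_equiv (subgroupOfEquivOfLe inf_le_right).symm) hlt.le).symm
  refine ⟨T, hPT ▸ map_subtype_le _, fun y hy g hg => ?_⟩
  have hfus := H6.fusionIn_centerThompsonOf (p := p) s.ne_two (Nat.card G) G le_rfl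
    s.toMin.not_involves_sl2 T
  have hle : zpowers y ≤ ((T : Subgroup G).comap (MulAut.conj g).toMonoidHom) := zpowers_le.mpr hg
  obtain ⟨x, hx, hxe⟩ := hfus (zpowers y) (zpowers_le.mpr hy) g fun w hw => hle hw
  refine ⟨x, hYX ?_, (hxe y (mem_zpowers y)).symm⟩
  rw [hY, hZG, hPT]
  exact hx

/-- A subgroup `X` strongly embedded in the minimal configuration has `O₂(X) ≠ 1`. -/
theorem SE.pCore_two_ne_bot (s : SE p G X) : Cfsg.pCore 2 X ≠ ⊥ := by
  intro hO
  haveI := Fact.mk s.hp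
  haveI := Fact.mk Nat.prime_two
  obtain ⟨T, hTX, hctl⟩ := s.exists_control hO
  obtain ⟨u, hu, huX⟩ := H67.se_exists_invol_not_mem s.se
  obtain ⟨z, hzX, hz1, hinv⟩ := s.exists_inverted hu huX
  obtain ⟨k, hk⟩ := s.inverted_ppow hu huX hzX hinv
  -- conjugation into `T` inside `X`
  have hconj : ∀ w ∈ X, (∃ j : ℕ, orderOf w = p ^ j) → ∃ h ∈ X, h * w * h⁻¹ ∈ (T : Subgroup G) := by
    rintro w hw ⟨j, hj⟩
    have hwp : IsPGroup p (zpowers (⟨w, hw⟩ : X)) :=
      IsPGroup.of_card (n := j) (by rw [Nat.card_zpowers, Subgroup.orderOf_mk, hj])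
    obtain ⟨R, hR⟩ := hwp.exists_le_sylow
    obtain ⟨h, hh⟩ := MulAction.exists_smul_eq X R (T.subtype hTX)
    refine ⟨h, h.2, ?_⟩
    have h1 : h * ⟨w, hw⟩ * h⁻¹ ∈ ((h • R : Sylow p X) : Subgroup X) := by
      rw [Sylow.coe_subgroup_smul]
      exact ⟨_, hR (mem_zpowers _), rfl⟩
    rw [hh] at h1
    exact h1
  -- an involution of `X` inverting `z`
  obtain ⟨h, hhX, hhT⟩ := hconj z hzX ⟨k, hk⟩
  obtain ⟨t, htX, ht⟩ : ∃ t ∈ X, t * z * t⁻¹ = z⁻¹ := by
    obtain ⟨x, hx, hxe⟩ := hctl _ hhT (h * u * h⁻¹) (by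
      rw [show h * u * h⁻¹ * (h * z * h⁻¹) * (h * u * h⁻¹)⁻¹ = h * (u * z * u⁻¹) * h⁻¹ by group, hinv,
        show h * z⁻¹ * h⁻¹ = (h * z * h⁻¹)⁻¹ by group]
      exact inv_mem hhT)
    refine ⟨h⁻¹ * x * h, mul_mem (mul_mem (inv_mem hhX) hx) hhX, ?_⟩
    calc h⁻¹ * x * h * z * (h⁻¹ * x * h)⁻¹ = h⁻¹ * (x * (h * z * h⁻¹) * x⁻¹) * h := by group
      _ = h⁻¹ * (h * u * h⁻¹ * (h * z * h⁻¹) * (h * u * h⁻¹)⁻¹) * h := by rw [hxe]
      _ = u * z * u⁻¹ := by group
      _ = z⁻¹ := hinv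
  obtain ⟨t₀, ht₀X, ht₀2, ht₀⟩ : ∃ t ∈ X, orderOf t = 2 ∧ t * z * t⁻¹ = z⁻¹ := by
    set n := orderOf t with hn
    set m := n / 2 ^ n.factorization 2 with hm
    have hmodd : Odd m := Nat.coprime_two_left.mp (Nat.coprime_ordCompl Nat.prime_two (orderOf_pos t).ne')
    have hpw : ∀ i : ℕ, t ^ i * z * (t ^ i)⁻¹ = if Even i then z else z⁻¹ := by
      intro i
      induction i with
      | zero => simp
      | succ i ih =>
        rw [pow_succ', show t * t ^ i * z * (t * t ^ i)⁻¹ = t * (t ^ i * z * (t ^ i)⁻¹) * t⁻¹ by group,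
          ih]
        by_cases hi : Even i
        · rw [if_pos hi, if_neg (by simpa [Nat.even_add_one] using hi), ht]
        · rw [if_neg hi, if_pos (by simpa [Nat.even_add_one] using hi),
            show t * z⁻¹ * t⁻¹ = (t * z * t⁻¹)⁻¹ by group, ht, inv_inv]
    have hsm := hpw m
    rw [if_neg (Nat.not_even_iff_odd.mpr hmodd)] at hsm
    refine ⟨t ^ m, pow_mem htX m, ?_, hsm⟩
    have hord : orderOf (t ^ m) ∣ 2 ^ n.factorization 2 := by
      refine orderOf_dvd_of_pow_eq_one ?_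
      rw [← pow_mul, hm, Nat.div_mul_cancel (Nat.ordProj_dvd n 2), hn, pow_orderOf_eq_one]
    obtain ⟨e, -, he⟩ := (Nat.dvd_prime_pow Nat.prime_two).mp hord
    rcases e with _ | _ | e
    · exfalso
      rw [pow_zero, orderOf_eq_one_iff] at he
      rw [he, one_mul, inv_one, mul_one] at hsm
      have hz2 : z ^ 2 = 1 := by rw [pow_two]; nth_rw 2 [hsm]; exact mul_inv_cancel z
      refine hz1 (orderOf_eq_one_iff.mp (Nat.eq_one_of_dvd_coprimes ?_ (orderOf_dvd_of_pow_eq_one hz2)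
        dvd_rfl))
      rw [hk]
      exact ((Nat.coprime_primes Nat.prime_two s.hp).mpr s.ne_two.symm).pow_right k
    · simpa using he
    · exfalso
      have hsq : Commute ((t ^ m) ^ 2) z := by
        have h1 := hpw (m * 2)
        rw [if_pos (even_two.mul_left m), pow_mul] at h1
        exact mul_inv_eq_iff_eq_mul.mp h1
      refine H67.se_inverted_no_invol s.se hu huX hzX hz1 hinv
        (t := ((t ^ m) ^ 2) ^ (2 ^ e)) ?_ (pow_mem (pow_mem (pow_mem htX _) _) _) (hsq.pow_left _)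
      rw [← pow_mul, orderOf_pow_of_dvd (by positivity) (by rw [he]; exact ⟨2, by ring⟩), he,
        show 2 ^ (e + 1 + 1) = 2 * (2 * 2 ^ e) by ring, Nat.mul_div_cancel _ (by positivity)]
  -- the centralizer of `z` lies in `X`
  set C := centralizer ({z} : Set G) with hC
  set H := C ⊔ zpowers t₀ with hH
  have htC : t₀ ∈ normalizer (C : Set G) := by
    refine Cfsg.Comp.mem_normalizer_of_map_conj_eq ?_
    refine eq_of_le_of_card_ge ?_ (card_map_of_injective (MulAut.conj t₀).injective).ge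
    rintro _ ⟨c, hc, rfl⟩
    have hcz : Commute c z := mem_centralizer_singleton_iff.mp hc
    have h1 := hcz.inv_right.map (MulAut.conj t₀).toMonoidHom
    have h2 : (MulAut.conj t₀).toMonoidHom z⁻¹ = z := by
      show t₀ * z⁻¹ * t₀⁻¹ = z
      rw [show t₀ * z⁻¹ * t₀⁻¹ = (t₀ * z * t₀⁻¹)⁻¹ by group, ht₀, inv_inv]
    rw [h2] at h1
    exact mem_centralizer_singleton_iff.mpr h1.eq
  have hHtop : H ≠ ⊤ := by
    have hle : H ≤ normalizer ((zpowers z : Subgroup G) : Set G) := by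
      refine sup_le (fun c hc => ?_) (zpowers_le.mpr ?_) <;>
        refine Cfsg.Comp.mem_normalizer_of_map_conj_eq ?_ <;> rw [MonoidHom.map_zpowers]
      · congr 1
        show c * z * c⁻¹ = z
        rw [mem_centralizer_singleton_iff.mp hc, mul_inv_cancel_right]
      · show zpowers (t₀ * z * t₀⁻¹) = zpowers z
        rw [ht₀, zpowers_inv]
    intro h
    refine s.toMin.normalizer_ne_top (fun h' => hz1 (zpowers_eq_bot.mp h')) (fun h' => ?_)
      (top_le_iff.mp (h ▸ hle))
    exact s.se.1 (top_le_iff.mp (h' ▸ zpowers_le.mpr hzX))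
  haveI := s.sol H hHtop
  obtain ⟨R, hRX, hRC, hRidx⟩ : ∃ R : Subgroup G, R ≤ X ∧ R ≤ C ∧ ¬ p ∣ R.relIndex C := by
    obtain ⟨R₀⟩ : Nonempty (Sylow p C) := inferInstance
    have hzR : (⟨z, mem_centralizer_singleton_iff.mpr rfl⟩ : C) ∈ (R₀ : Subgroup C) := by
      set zC : C := ⟨z, mem_centralizer_singleton_iff.mpr rfl⟩
      haveI : (zpowers zC).Normal := ⟨fun n hn c => by
        obtain ⟨i, rfl⟩ := mem_zpowers_iff.mp hn
        have h1 : Commute c zC := Subtype.ext (mem_centralizer_singleton_iff.mp c.2)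
        rw [(h1.zpow_right i).eq, mul_inv_cancel_right]
        exact zpow_mem (mem_zpowers zC) i⟩
      have hzp : IsPGroup p (zpowers zC) :=
        IsPGroup.of_card (n := k) (by rw [Nat.card_zpowers, Subgroup.orderOf_mk, hk])
      exact hzp.le_sylow_of_normal R₀ (mem_zpowers zC)
    set RG := (R₀ : Subgroup C).map C.subtype with hRG
    obtain ⟨T', hT'⟩ := (R₀.2.map C.subtype).exists_le_sylow
    obtain ⟨g, hg⟩ := MulAction.exists_smul_eq G T' T
    have hgT : ∀ r ∈ RG, g * r * g⁻¹ ∈ (T : Subgroup G) := fun r hr => by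
      rw [← hg, Sylow.coe_subgroup_smul]
      exact ⟨r, hT' hr, rfl⟩
    have hy : g * z * g⁻¹ ∈ (T : Subgroup G) := hgT z ⟨_, hzR, rfl⟩
    obtain ⟨x, hx, hxe⟩ := hctl _ hy (h * g⁻¹) (by
      rw [show h * g⁻¹ * (g * z * g⁻¹) * (h * g⁻¹)⁻¹ = h * z * h⁻¹ by group]; exact hhT)
    set c := h⁻¹ * x * g with hc
    have hcz : c * z * c⁻¹ = z := by
      calc c * z * c⁻¹ = h⁻¹ * (x * (g * z * g⁻¹) * x⁻¹) * h := by rw [hc]; group
        _ = h⁻¹ * (h * g⁻¹ * (g * z * g⁻¹) * (h * g⁻¹)⁻¹) * h := by rw [hxe]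
        _ = z := by group
    have hcC : c ∈ C := mem_centralizer_singleton_iff.mpr (mul_inv_eq_iff_eq_mul.mp hcz)
    refine ⟨(((⟨c, hcC⟩ : C) • R₀ : Sylow p C) : Subgroup C).map C.subtype, ?_, map_subtype_le _, ?_⟩
    · rintro _ ⟨w, hw, rfl⟩
      rw [Sylow.coe_subgroup_smul] at hw
      obtain ⟨r, hr, rfl⟩ := hw
      show c * (r : G) * c⁻¹ ∈ X
      have h1 := hTX (hgT r ⟨r, hr, rfl⟩)
      rw [hc, show h⁻¹ * x * g * (r : G) * (h⁻¹ * x * g)⁻¹ = h⁻¹ * x * (g * r * g⁻¹) * (h⁻¹ * x)⁻¹ by group]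
      exact mul_mem (mul_mem (mul_mem (inv_mem hhX) hx) h1) (inv_mem (mul_mem (inv_mem hhX) hx))
    · rw [relIndex, subgroupOf, comap_map_eq_self_of_injective C.subtype_injective]
      exact (((⟨c, hcC⟩ : C) • R₀ : Sylow p C)).not_dvd_index
  obtain ⟨U, htU, hUπ, hUπ'⟩ := H1.hall_pi_exists_ge (G := H) (fun r => r ≠ p)
    (zpowers ⟨t₀, mem_sup_right (mem_zpowers t₀)⟩) (fun r hr hd => by
      rw [Nat.card_zpowers, Subgroup.orderOf_mk, ht₀2, Nat.prime_dvd_prime_iff_eq hr Nat.prime_two] at hd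
      exact hd ▸ s.ne_two.symm)
  have hUc : (Nat.card U).Coprime p := (s.hp.coprime_iff_not_dvd.mpr fun hd => hUπ p s.hp hd rfl).symm
  haveI : Group.IsNilpotent U := (s.nil.subgroup H) U hUc
  have hUX : U.map H.subtype ≤ X := by
    have hne : Nontrivial U := by
      refine ⟨⟨⟨_, htU (mem_zpowers _)⟩, 1, fun h => ?_⟩⟩
      have h1 : t₀ = 1 := congrArg (fun w : U => ((w : H) : G)) h
      rw [h1, orderOf_one] at ht₀2
      omega
    obtain ⟨W⟩ : Nonempty (Sylow 2 U) := inferInstance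
    haveI : (W : Subgroup U).Normal := inferInstance
    have hW1 : (W : Subgroup U) ≠ ⊥ := by
      intro hb
      have h2 := W.not_dvd_index
      rw [hb, index_bot] at h2
      refine h2 ?_
      have h3 := (orderOf_dvd_natCard (⟨_, htU (mem_zpowers _)⟩ : U))
      rwa [Subgroup.orderOf_mk, Subgroup.orderOf_mk, ht₀2] at h3
    haveI := (nontrivial_iff_ne_bot _).mpr hW1
    haveI := W.2.center_nontrivial
    obtain ⟨j, hj, hcard⟩ := (W.2.to_subgroup (center (W : Subgroup U))).nontrivial_iff_card.mp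
      inferInstance
    obtain ⟨⟨⟨w, hwW⟩, hw⟩, hw2⟩ := exists_prime_orderOf_dvd_card' 2 (hcard ▸ dvd_pow_self 2 hj.ne')
    rw [Subgroup.orderOf_mk, Subgroup.orderOf_mk] at hw2
    have hwG : orderOf ((w : H) : G) = 2 := by
      rw [Subgroup.orderOf_coe, Subgroup.orderOf_coe]; exact hw2
    set t' : U := ⟨_, htU (mem_zpowers _)⟩ with ht'
    have ht'2 : orderOf t' = 2 := by rw [ht', Subgroup.orderOf_mk, Subgroup.orderOf_mk]; exact ht₀2
    have ht'W : t' ∈ (W : Subgroup U) := by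
      haveI := W.2
      have h3 : IsPGroup 2 (zpowers t') := IsPGroup.of_card (n := 1) (by rw [Nat.card_zpowers, ht'2, pow_one])
      obtain ⟨W', hW'⟩ := h3.exists_le_sylow
      haveI := Sylow.unique_of_normal W inferInstance
      rw [Subsingleton.elim W W']
      exact hW' (mem_zpowers t')
    have hcomm : ∀ v : U, v ∈ (W : Subgroup U) → Commute ((v : H) : G) ((w : H) : G) := fun v hv =>
      congrArg (fun y : (W : Subgroup U) => (((y : U) : H) : G)) (mem_center_iff.mp hw ⟨v, hv⟩)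
    have hwX : ((w : H) : G) ∈ X :=
      H67.se_centralizer_mem s.se ht₀2 ht₀X (hcomm t' ht'W).symm
    set Sx : Subgroup U := X.comap (H.subtype.comp U.subtype) with hSx
    have hSxtop : Sx = ⊤ := by
      rw [← index_eq_one]
      by_contra hne
      obtain ⟨q, hq, hqd⟩ := Nat.exists_prime_and_dvd hne
      haveI := Fact.mk hq
      obtain ⟨Q⟩ : Nonempty (Sylow q U) := inferInstance
      refine Q.not_dvd_index (hqd.trans (index_dvd_of_le fun v hv => ?_))
      show ((v : H) : G) ∈ X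
      by_cases hq2 : q = 2
      · subst hq2
        have : (Q : Subgroup U) = W := by
          haveI := Sylow.unique_of_normal W inferInstance
          rw [Subsingleton.elim Q W]
        exact H67.se_centralizer_mem s.se hwG hwX (hcomm v (this ▸ hv))
      · have hco : (orderOf v).Coprime (orderOf t') := by
          rw [ht'2]
          obtain ⟨i, hi⟩ := Q.2 ⟨v, hv⟩
          have h1 : orderOf v ∣ q ^ i :=
            orderOf_dvd_of_pow_eq_one (congrArg (fun y : (Q : Subgroup U) => (y : U)) hi)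
          exact ((Nat.coprime_primes hq Nat.prime_two).mpr hq2).pow_left i |>.coprime_dvd_left h1
        exact H67.se_centralizer_mem s.se ht₀2 ht₀X
          (congrArg (fun y : U => ((y : H) : G)) (H81.commute_of_coprime_orderOf inferInstance hco))
    rintro _ ⟨v, hv, rfl⟩
    exact (hSxtop ▸ mem_top (⟨v, hv⟩ : U) : (⟨v, hv⟩ : U) ∈ Sx)
  have hHX : H ≤ X := by
    rw [← subgroupOf_eq_top, ← index_eq_one]
    by_contra hne
    obtain ⟨q, hq, hqd⟩ := Nat.exists_prime_and_dvd hne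
    by_cases hqp : q = p
    · rw [hqp] at hqd
      have h1 : R.relIndex H = R.relIndex C * C.relIndex H :=
        (relIndex_mul_relIndex _ _ _ hRC le_sup_left).symm
      have h2 : C.relIndex H ∣ 2 := by
        rw [hH, H81.relIndex_sup_of_le_normalizer (zpowers_le.mpr htC)]
        exact (relIndex_dvd_card C (zpowers t₀)).trans (by rw [Nat.card_zpowers, ht₀2])
      have h3 : p ∣ R.relIndex H := hqd.trans (relIndex_dvd_of_le_left H hRX)
      rw [h1] at h3
      rcases s.hp.dvd_mul.mp h3 with h4 | h4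
      · exact hRidx h4
      · exact s.ne_two ((Nat.prime_dvd_prime_iff_eq s.hp Nat.prime_two).mp (h4.trans h2))
    · refine hUπ' q hq (hqd.trans (index_dvd_of_le ?_)) hqp
      intro v hv
      exact mem_subgroupOf.mpr (hUX ⟨v, hv, rfl⟩)
  -- so does `u`
  have huC : u * t₀ ∈ C := by
    refine mem_centralizer_singleton_iff.mpr (mul_inv_eq_iff_eq_mul.mp ?_)
    calc u * t₀ * z * (u * t₀)⁻¹ = u * (t₀ * z * t₀⁻¹) * u⁻¹ := by group
      _ = (u * z * u⁻¹)⁻¹ := by rw [ht₀]; group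
      _ = z := by rw [hinv, inv_inv]
  have := mul_mem (hHX (mem_sup_left huC)) (inv_mem ht₀X)
  rw [mul_inv_cancel_right] at this
  exact huX this

end H9.NilHall
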