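import Cfsg.Agent.H9.NilHall.CaseOdd
import Cfsg.Agent.H1.Gross.Prelim

/-!
The structure of the strongly embedded subgroup: its involutions form an elementary abelian normal
subgroup on which it induces a group of order `p`.
-/

set_option autoImplicit false
set_option linter.style.haveILetI false
set_option linter.unusedSectionVars false

namespace H9.NilHall

open Subgroup Cfsg MulAction

universe u

variable {G : Type u} [Group G] [Finite G] {p : ℕ}

/-- A transitive soluble group of prime degree: an element fixing two points is trivial, and the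
stabilizers have order prime to the degree. -/
theorem prime_degree {α : Type*} [Finite α] (hp : p.Prime) (hα : Nat.card α = p)
    (R : Subgroup (Equiv.Perm α)) [Group.IsSolvable R] [IsPretransitive R α] :
    (∀ x : R, ∀ a b : α, a ≠ b → (x : Equiv.Perm α) a = a → (x : Equiv.Perm α) b = b → x = 1) ∧
      (∀ a : α, ¬ p ∣ Nat.card (stabilizer R a)) := by
  classical
  haveI := Fact.mk hp
  haveI : Fintype α := Fintype.ofFinite α
  have hfac : Nat.card R ∣ p.factorial := by
    have h1 := R.card_subgroup_dvd_card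
    rwa [Nat.card_eq_fintype_card (α := Equiv.Perm α), Fintype.card_perm, ← Nat.card_eq_fintype_card,
      hα] at h1
  haveI : Nonempty α := (Nat.card_pos_iff.mp (hα ▸ hp.pos)).1
  have hstab : ∀ a : α, ¬ p ∣ Nat.card (stabilizer R a) := by
    intro a hd
    have h1 : Nat.card (stabilizer R a) * p = Nat.card R := by
      rw [← hα, ← index_stabilizer_of_transitive R a, card_mul_index]
    have h2 : p * p ∣ p.factorial := ((Nat.mul_dvd_mul hd dvd_rfl).trans h1.dvd).trans hfac
    obtain ⟨n, rfl⟩ : ∃ n, p = n + 1 := ⟨p - 1, by have := hp.pos; omega⟩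
    rw [Nat.factorial_succ] at h2
    have h3 := hp.dvd_factorial.mp ((mul_dvd_mul_iff_left (Nat.succ_ne_zero n)).mp h2)
    omega
  refine ⟨?_, hstab⟩
  have hnt : Nontrivial R := by
    rw [← Finite.one_lt_card_iff_nontrivial]
    obtain ⟨a⟩ := (inferInstance : Nonempty α)
    have h1 := (stabilizer R a).card_mul_index
    rw [index_stabilizer_of_transitive R a, hα] at h1
    have := hp.two_le
    have h2 : 0 < Nat.card (stabilizer R a) := Nat.card_pos
    nlinarith
  -- a nontrivial normal subgroup is transitive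
  have htr : ∀ N : Subgroup R, N.Normal → N ≠ ⊥ → p ∣ Nat.card N := by
    intro N hN hN1
    obtain ⟨a, ha⟩ : ∃ a : α, ∃ n : N, (n : R) • a ≠ a := by
      by_contra! h
      refine hN1 ((eq_bot_iff_forall _).mpr fun n hn => Subtype.ext (Equiv.ext fun a => ?_))
      exact h a ⟨n, hn⟩
    obtain ⟨n, hn⟩ := ha
    have h1 : (orbit N a).ncard ∣ p := by
      have hB : IsBlock R (orbit N a) := IsBlock.orbit_of_normal a
      have := hB.ncard_dvd_card ⟨a, mem_orbit_self a⟩
      rwa [hα] at this
    have h2 : 1 < (orbit N a).ncard :=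
      Set.one_lt_ncard (Set.toFinite _) |>.mpr ⟨a, mem_orbit_self a, (n : R) • a, ⟨n, rfl⟩, hn.symm⟩
    have h3 : (orbit N a).ncard = p := ((Nat.dvd_prime hp).mp h1).resolve_left (by omega)
    rw [← h3, ← index_stabilizer N a]
    exact index_dvd_card _
  set P := Cfsg.pCore p R with hP
  haveI hPn : P.Normal := H1.pCore_normal' p R
  have hP1 : P ≠ ⊥ := by
    rcases H10.pCore_or_pPrimeCore_ne_bot (p := p) (H10.isPSolvable_of_isSolvable (G := R)) with h | h
    · exact h
    · exfalso
      have h1 := htr _ (H1.pPrimeCore_normal' p R) h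
      exact (hp.coprime_iff_not_dvd.mp (H1.card_pPrimeCore_coprime p R).symm) h1
  have hPd := htr P hPn hP1
  intro x a b hab hxa hxb
  -- `P` is regular
  have hreg : ∀ y ∈ P, ∀ c : α, y • c = c → y = 1 := by
    intro y hy c hyc
    by_contra hy1
    obtain ⟨i, hi⟩ := (H1.isPGroup_pCore p R) ⟨y, hy⟩
    have hi' : y ^ p ^ i = 1 := congrArg (fun z : P => (z : R)) hi
    obtain ⟨j, -, hj⟩ := (Nat.dvd_prime_pow hp).mp (orderOf_dvd_of_pow_eq_one hi')
    refine hstab c (dvd_trans ?_ (Subgroup.orderOf_dvd_natCard (stabilizer R c) hyc))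
    rw [hj]
    refine dvd_pow_self p ?_
    rintro rfl
    exact hy1 (orderOf_eq_one_iff.mp (by rw [hj, pow_zero]))
  have hPt : ∀ c : α, ∃ y ∈ P, y • a = c := by
    have hinj : Function.Injective fun y : P => (y : R) • a := fun y z h => by
      refine Subtype.ext (inv_mul_eq_one.mp (hreg _ (mul_mem (inv_mem z.2) y.2) a ?_)).symm
      rw [mul_smul, show (y : R) • a = (z : R) • a from h, inv_smul_smul]
    have hb := hinj.bijective_of_nat_card_le (by rw [hα]; exact Nat.le_of_dvd Nat.card_pos hPd)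
    exact fun c => (hb.2 c).elim fun y hy => ⟨y, y.2, hy⟩
  obtain ⟨y, hyP, hy⟩ := hPt b
  have hxy : x * y * x⁻¹ = y := by
    refine (inv_mul_eq_one.mp (hreg _ (mul_mem (inv_mem hyP) (hPn.conj_mem y hyP x)) a ?_)).symm
    have ha' : x⁻¹ • a = a := inv_smul_eq_iff.mpr hxa.symm
    rw [mul_smul, mul_smul, mul_smul, ha', hy, show x • b = b from hxb, ← hy, inv_smul_smul]
  have hP' : P = zpowers y := by
    refine (eq_of_le_of_card_ge (zpowers_le.mpr hyP) ?_).symm
    have h1 : Nat.card P ≤ p := by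
      rw [← hα]
      exact Nat.card_le_card_of_injective (fun z : P => (z : R) • a) fun u v h => by
        refine Subtype.ext (inv_mul_eq_one.mp (hreg _ (mul_mem (inv_mem v.2) u.2) a ?_)).symm
        rw [mul_smul, show (u : R) • a = (v : R) • a from h, inv_smul_smul]
    rw [Nat.card_zpowers]
    obtain ⟨i, hi⟩ := (H1.isPGroup_pCore p R) ⟨y, hyP⟩
    have hi' : y ^ p ^ i = 1 := congrArg (fun z : P => (z : R)) hi
    obtain ⟨j, -, hj⟩ := (Nat.dvd_prime_pow hp).mp (orderOf_dvd_of_pow_eq_one hi')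
    rw [hj]
    refine h1.trans (le_self_pow₀ hp.one_le ?_)
    rintro rfl
    rw [pow_zero, orderOf_eq_one_iff] at hj
    rw [hj, one_smul] at hy
    exact hab hy
  refine Subtype.ext (Equiv.ext fun c => ?_)
  obtain ⟨z, hz, rfl⟩ := hPt c
  rw [hP'] at hz
  obtain ⟨i, rfl⟩ := mem_zpowers_iff.mp hz
  have hc : Commute x (y ^ i) := Commute.zpow_right (mul_inv_eq_iff_eq_mul.mp hxy) i
  show x • (y ^ i) • a = (y ^ i) • a
  rw [← mul_smul, hc.eq, mul_smul, show x • a = a from hxa]

variable {X : Subgroup G}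

/-- The involutions of `X` commute. -/
theorem SE.commute_invol (s : SE p G X) {x y : G} (hx : x ∈ X) (hy : y ∈ X) (hx2 : x * x = 1)
    (hy2 : y * y = 1) : Commute x y := by
  haveI := Fact.mk Nat.prime_two
  haveI := H1.pCore_normal' 2 X
  set Q := Cfsg.pCore 2 X with hQ
  haveI : Nontrivial Q := (nontrivial_iff_ne_bot Q).mpr s.pCore_two_ne_bot
  have hQp := H1.isPGroup_pCore 2 X
  haveI := hQp.center_nontrivial
  set Z := (center Q).map Q.subtype with hZ
  haveI : Z.Normal := H1.map_subtype_normal_of_characteristic Q (center Q)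
  obtain ⟨n, hn, hcard⟩ := (hQp.to_subgroup (center Q)).nontrivial_iff_card.mp inferInstance
  obtain ⟨v, hv⟩ := exists_prime_orderOf_dvd_card' (G := center Q) 2 (hcard ▸ dvd_pow_self 2 hn.ne')
  set v' : X := ((v : Q) : X) with hv'
  have hvZ : v' ∈ Z := ⟨v, v.2, rfl⟩
  have hv2 : orderOf (v' : G) = 2 := by
    rw [hv', Subgroup.orderOf_coe, Subgroup.orderOf_coe, Subgroup.orderOf_coe]; exact hv
  have hmem : ∀ (w : G) (hw : w ∈ X), w * w = 1 → (⟨w, hw⟩ : X) ∈ Z := by
    intro w hw hw2
    by_cases hw1 : w = 1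
    · subst hw1; exact one_mem Z
    obtain ⟨h, hh, hhe⟩ := H67.se_conj_in s.se hv2 v'.2 (orderOf_eq_prime (by rw [pow_two, hw2]) hw1) hw
    have := (inferInstance : Z.Normal).conj_mem v' hvZ ⟨h, hh⟩
    convert this using 1
    exact Subtype.ext hhe.symm
  obtain ⟨x', hx', hxe⟩ := hmem x hx hx2
  obtain ⟨y', hy', hye⟩ := hmem y hy hy2
  have h1 : Commute x' y' := (mem_center_iff.mp hy' x')
  have h2 := (h1.map Q.subtype).map X.subtype
  rw [hxe, hye] at h2
  exact h2

/-- The data of the case `O₂(X) ≠ 1`. -/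
structure SEB (p : ℕ) (G : Type u) [Group G] (X : Subgroup G) : Prop extends SE p G X where
  comm : ∀ x y : G, x ∈ X → y ∈ X → x * x = 1 → y * y = 1 → Commute x y
  cent : ∀ x ∈ X, ∀ t ∈ X, orderOf t = 2 → Commute x t → ∀ s ∈ X, orderOf s = 2 → Commute x s
  derived : ∀ x ∈ X, ∀ y ∈ X, ∀ t ∈ X, orderOf t = 2 → Commute (x * y * x⁻¹ * y⁻¹) t
  card_invol : Nat.card (H67.involIn X) = p

theorem SE.toSEB (s : SE p G X) : SEB p G X := by
  haveI := Fact.mk s.hp
  haveI := Fact.mk Nat.prime_two
  haveI := s.sol_X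
  have comm : ∀ x y : G, x ∈ X → y ∈ X → x * x = 1 → y * y = 1 → Commute x y :=
    fun x y hx hy hx2 hy2 => s.commute_invol hx hy hx2 hy2
  let V : Subgroup G :=
    { carrier := {x | x ∈ X ∧ x * x = 1}
      one_mem' := ⟨one_mem X, one_mul 1⟩
      mul_mem' := fun {x y} hx hy => ⟨mul_mem hx.1 hy.1, by
        rw [show x * y * (x * y) = x * (y * x) * y by group, (comm y x hy.1 hx.1 hy.2 hx.2).eq,
          show x * (x * y) * y = (x * x) * (y * y) by group, hx.2, hy.2, one_mul]⟩
      inv_mem' := fun {x} hx => ⟨inv_mem hx.1, by rw [← mul_inv_rev, hx.2, inv_one]⟩ }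
  have hVmem : ∀ x : G, x ∈ V ↔ x ∈ X ∧ x * x = 1 := fun _ => Iff.rfl
  have hVp : IsPGroup 2 V := fun x => ⟨1, Subtype.ext (by
    rw [pow_one]; show ((x : G)) ^ 2 = 1; rw [pow_two]; exact x.2.2)⟩
  let e : H67.involIn X ≃ {v : V // v ≠ 1} :=
    { toFun := fun t => ⟨⟨t.1, t.2.2, H67.invol_sq t.2.1⟩, fun h => by
        have h1 : t.1 = 1 := congrArg Subtype.val h
        have h2 := t.2.1
        rw [h1, orderOf_one] at h2; omega⟩
      invFun := fun v => ⟨v.1.1, orderOf_eq_prime (by rw [pow_two, v.1.2.2]) (fun h => v.2 (Subtype.ext h)), v.1.2.1⟩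
      left_inv := fun _ => rfl
      right_inv := fun _ => rfl }
  haveI : Finite (H67.involIn X) := Subtype.finite
  have hcardV : Nat.card (H67.involIn X) + 1 = Nat.card V := by
    classical
    rw [Nat.card_congr e, ← Finite.card_option]
    exact Nat.card_congr (Equiv.optionSubtypeNe (1 : V))
  obtain ⟨a, b, haX, hbX, ha, hb, hab, hne⟩ := s.four
  have hI2 : 1 < Nat.card (H67.involIn X) := by
    rw [Finite.one_lt_card_iff_nontrivial]
    exact ⟨⟨⟨a, ha, haX⟩, ⟨b, hb, hbX⟩, fun h => hne (congrArg Subtype.val h)⟩⟩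
  let mkI : ∀ t : G, orderOf t = 2 → t ∈ X → H67.involIn X := fun t h1 h2 => ⟨t, h1, h2⟩
  -- the action on the involutions
  let φ : X →* Equiv.Perm (H67.involIn X) :=
    { toFun := fun x =>
        { toFun := fun t => ⟨x * t.1 * (x : G)⁻¹, H67.invol_conj t.2.1 _,
            mul_mem (mul_mem x.2 t.2.2) (inv_mem x.2)⟩
          invFun := fun t => ⟨(x : G)⁻¹ * t.1 * x, by simpa using H67.invol_conj t.2.1 (x : G)⁻¹,
            mul_mem (mul_mem (inv_mem x.2) t.2.2) x.2⟩
          left_inv := fun t => Subtype.ext (by group)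
          right_inv := fun t => Subtype.ext (by group) }
      map_one' := Equiv.ext fun t => Subtype.ext (by
        show ((1 : X) : G) * t.1 * ((1 : X) : G)⁻¹ = t.1
        simp)
      map_mul' := fun x y => Equiv.ext fun t => Subtype.ext (by
        show ((x * y : X) : G) * t.1 * ((x * y : X) : G)⁻¹ = x * (y * t.1 * (y : G)⁻¹) * (x : G)⁻¹
        rw [Subgroup.coe_mul]; group) }
  have hφ : ∀ (x : X) (t : H67.involIn X), φ x t = t ↔ Commute (x : G) t.1 := by
    intro x t
    constructor
    · intro h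
      exact mul_inv_eq_iff_eq_mul.mp (congrArg Subtype.val h)
    · intro h
      exact Subtype.ext (mul_inv_eq_iff_eq_mul.mpr h.eq)
  have hφ1 : ∀ x : X, φ x = 1 ↔ ∀ t ∈ X, orderOf t = 2 → Commute (x : G) t := by
    intro x
    constructor
    · intro h t ht ht2
      exact (hφ x (mkI t ht2 ht)).mp (by rw [h]; rfl)
    · intro h
      exact Equiv.ext fun t => (hφ x t).mpr (h t.1 t.2.2 t.2.1)
  set R := φ.range with hR
  haveI hRpre : IsPretransitive R (H67.involIn X) := ⟨fun t t' => by
    obtain ⟨h, hh, hhe⟩ := H67.se_conj_in s.se t.2.1 t.2.2 t'.2.1 t'.2.2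
    exact ⟨⟨φ ⟨h, hh⟩, ⟨_, rfl⟩⟩, Subtype.ext hhe⟩⟩
  haveI : Group.IsSolvable R := Group.isSolvable_of_surjective φ.rangeRestrict_surjective
  -- primes acting nontrivially
  have hprime : ∀ q : ℕ, q.Prime → q ≠ 2 → q ≠ p → ∀ x : X, φ x ^ q = 1 → φ x = 1 := by
    intro q hq hq2 hqp x hx
    haveI := Fact.mk hq
    set n := orderOf x with hn
    set m := n / q ^ n.factorization q with hm
    have hmq : q.Coprime m := Nat.coprime_ordCompl hq (orderOf_pos x).ne'
    have hy : orderOf (x ^ m) ∣ q ^ n.factorization q := by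
      refine orderOf_dvd_of_pow_eq_one ?_
      rw [← pow_mul, hm, Nat.div_mul_cancel (Nat.ordProj_dvd n q), hn, pow_orderOf_eq_one]
    have hy1 : φ (x ^ m) = 1 := by
      rw [hφ1]
      intro t ht ht2
      refine ((s.nil.commute (R := V) (y := ((x ^ m : X) : G)) ?_ ?_ ?_ ?_
        ⟨ht, H67.invol_sq ht2⟩)).symm
      · obtain ⟨k, hk⟩ := IsPGroup.iff_card.mp hVp
        rw [hk]
        exact ((Nat.coprime_primes Nat.prime_two s.hp).mpr s.ne_two.symm).pow_left k
      · rw [Subgroup.orderOf_coe]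
        exact (((Nat.coprime_primes hq s.hp).mpr hqp).pow_left _).coprime_dvd_left hy
      · obtain ⟨k, hk⟩ := IsPGroup.iff_card.mp hVp
        rw [hk, Subgroup.orderOf_coe]
        exact (((Nat.coprime_primes Nat.prime_two hq).mpr hq2.symm).pow k _).coprime_dvd_right hy
      · refine Cfsg.Comp.mem_normalizer_of_map_conj_eq ?_
        refine eq_of_le_of_card_ge ?_ (card_map_of_injective (MulAut.conj _).injective).ge
        rintro _ ⟨v, hv, rfl⟩
        refine ⟨mul_mem (mul_mem (x ^ m).2 hv.1) (inv_mem (x ^ m).2), ?_⟩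
        rw [← map_mul, hv.2, map_one]
    rw [map_pow] at hy1
    exact orderOf_eq_one_iff.mp (Nat.eq_one_of_dvd_coprimes hmq (orderOf_dvd_of_pow_eq_one hx)
      (orderOf_dvd_of_pow_eq_one hy1))
  -- the number of involutions of `X` is `p`
  have hRdvd : Nat.card (H67.involIn X) ∣ Nat.card R := by
    rw [← index_stabilizer_of_transitive R (mkI a ha haX)]
    exact index_dvd_card _
  obtain ⟨k, hk⟩ := IsPGroup.iff_card.mp hVp
  have hodd : Odd (Nat.card (H67.involIn X)) := by
    rw [hk] at hcardV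
    have h1 : k ≠ 0 := by rintro rfl; simp at hcardV; omega
    have h2 : Even (2 ^ k) := (Nat.even_pow).mpr ⟨even_two, h1⟩
    rw [← hcardV, Nat.even_add_one, Nat.not_even_iff_odd] at h2
    exact h2
  have hcard : Nat.card (H67.involIn X) = p := by
    obtain ⟨i, hi⟩ : ∃ i, Nat.card (H67.involIn X) = p ^ i := by
      refine ⟨_, Nat.eq_prime_pow_of_unique_prime_dvd (by omega) fun {d} hd hdd => ?_⟩
      by_contra hdp
      haveI := Fact.mk hd
      obtain ⟨⟨_, x, rfl⟩, hσ⟩ := exists_prime_orderOf_dvd_card' d (hdd.trans hRdvd)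
      rw [← Subgroup.orderOf_coe] at hσ
      change orderOf (φ x) = d at hσ
      have hd2 : d ≠ 2 := fun h => by
        subst h
        exact (Nat.not_even_iff_odd.mpr hodd) (even_iff_two_dvd.mpr hdd)
      rw [hprime d hd hd2 hdp x (hσ ▸ pow_orderOf_eq_one _), orderOf_one] at hσ
      exact hd.ne_one hσ.symm
    rcases i with _ | i
    · rw [pow_zero] at hi; omega
    rw [hi, hk] at hcardV
    have h1 := H1.Gross.mersenne (q := p) (e := i + 1) (k := k) (by have := s.five; omega)
      (s.hp.odd_of_ne_two s.ne_two) (by omega) hcardV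
    rw [hi, h1, pow_one]
  obtain ⟨hfix, hstab⟩ := prime_degree s.hp hcard R
  -- the stabilizers are trivial
  have htriv : ∀ t : H67.involIn X, stabilizer R t = ⊥ := by
    intro t
    rw [← card_eq_one]
    by_contra hne1
    obtain ⟨q, hq, hqd⟩ := Nat.exists_prime_and_dvd hne1
    haveI := Fact.mk hq
    obtain ⟨⟨⟨_, x, rfl⟩, hst⟩, hσ⟩ := exists_prime_orderOf_dvd_card' q hqd
    rw [← Subgroup.orderOf_coe, ← Subgroup.orderOf_coe] at hσ
    change orderOf (φ x) = q at hσ
    have hx : φ x ^ q = 1 := hσ ▸ pow_orderOf_eq_one _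
    have hne' : φ x ≠ 1 := fun h => by rw [h, orderOf_one] at hσ; exact hq.ne_one hσ.symm
    by_cases hq2 : q = 2
    · subst hq2
      have hxt : Commute (x : G) t.1 := (hφ x t).mp hst
      have honly : ∀ v : G, v ∈ V → Commute (x : G) v → v = 1 ∨ v = t.1 := by
        intro v hv hxv
        by_contra hcon
        push Not at hcon
        obtain ⟨hv1, hvt⟩ := hcon
        refine hne' ?_
        have h1 := hfix ⟨φ x, x, rfl⟩ t (mkI v (orderOf_eq_prime (by rw [pow_two, hv.2]) hv1) hv.1)
          (fun h => hvt (congrArg Subtype.val h).symm) ((hφ x t).mpr hxt) ((hφ x _).mpr hxv)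
        exact congrArg Subtype.val h1
      have hx2 : ∀ v ∈ V, Commute ((x : G) * x) v := by
        intro v hv
        by_cases hv1 : v = 1
        · subst hv1; exact Commute.one_right _
        have h1 : φ (x * x) = 1 := by rw [map_mul, ← pow_two, hx]
        exact (hφ1 _).mp h1 v hv.1 (orderOf_eq_prime (by rw [pow_two, hv.2]) hv1)
      have hVcomm : ∀ v ∈ V, ∀ w ∈ V, Commute v w := fun v hv w hw => comm v w hv.1 hw.1 hv.2 hw.2
      have hconjV : ∀ v ∈ V, (x : G) * v * (x : G)⁻¹ ∈ V := fun v hv =>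
        ⟨mul_mem (mul_mem x.2 hv.1) (inv_mem x.2), by
          rw [show (x : G) * v * (x : G)⁻¹ * (x * v * (x : G)⁻¹) = x * (v * v) * (x : G)⁻¹ by group, hv.2,
            mul_one, mul_inv_cancel]⟩
      let g : V →* V := MonoidHom.mk' (fun v => ⟨v.1 * ((x : G) * v.1 * (x : G)⁻¹), mul_mem v.2 (hconjV _ v.2)⟩)
        fun v w => Subtype.ext (by
          show v.1 * w.1 * ((x : G) * (v.1 * w.1) * (x : G)⁻¹) =
            v.1 * ((x : G) * v.1 * (x : G)⁻¹) * (w.1 * ((x : G) * w.1 * (x : G)⁻¹))
          calc v.1 * w.1 * ((x : G) * (v.1 * w.1) * (x : G)⁻¹)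
              = v.1 * (w.1 * ((x : G) * v.1 * (x : G)⁻¹)) * ((x : G) * w.1 * (x : G)⁻¹) := by group
            _ = v.1 * (((x : G) * v.1 * (x : G)⁻¹) * w.1) * ((x : G) * w.1 * (x : G)⁻¹) := by
                rw [(hVcomm _ w.2 _ (hconjV _ v.2)).eq]
            _ = _ := by group)
      have hF : ∀ v : V, Commute (x : G) v.1 → v = 1 ∨ v.1 = t.1 := fun v hv =>
        (honly _ v.2 hv).imp (fun h => Subtype.ext h) id
      have hker : Nat.card g.ker ≤ 2 := by
        calc Nat.card g.ker ≤ Nat.card ({(1 : G), t.1} : Set G) :=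
              Nat.card_le_card_of_injective (fun v => ⟨(v.1 : G), by
                have h1 : v.1.1 * ((x : G) * v.1.1 * (x : G)⁻¹) = 1 := congrArg Subtype.val (MonoidHom.mem_ker.mp v.2)
                have h2 : Commute (x : G) v.1.1 := by
                  have h3 := eq_inv_of_mul_eq_one_right h1
                  rw [inv_eq_of_mul_eq_one_right v.1.2.2] at h3
                  exact mul_inv_eq_iff_eq_mul.mp h3
                rcases hF v.1 h2 with h | h
                · left; rw [h]; rfl
                · right; exact h⟩) fun v w h => Subtype.ext (Subtype.ext (congrArg (fun z : ({(1 : G), t.1} : Set G) => (z : G)) h))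
          _ ≤ 2 := by
              rw [Nat.card_coe_set_eq]
              exact (Set.ncard_insert_le _ _).trans (by simp)
      have hrange : Nat.card g.range ≤ 2 := by
        calc Nat.card g.range ≤ Nat.card ({(1 : G), t.1} : Set G) :=
              Nat.card_le_card_of_injective (fun v => ⟨(v.1 : G), by
                obtain ⟨w, hw⟩ := v.2
                have h1 : Commute (x : G) v.1.1 := by
                  rw [← hw]
                  refine mul_inv_eq_iff_eq_mul.mp ?_
                  show (x : G) * (w.1 * ((x : G) * w.1 * (x : G)⁻¹)) * (x : G)⁻¹ = w.1 * ((x : G) * w.1 * (x : G)⁻¹)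
                  calc (x : G) * (w.1 * ((x : G) * w.1 * (x : G)⁻¹)) * (x : G)⁻¹
                      = ((x : G) * w.1 * (x : G)⁻¹) * (((x : G) * x) * w.1 * ((x : G) * x)⁻¹) := by group
                    _ = ((x : G) * w.1 * (x : G)⁻¹) * w.1 := by
                        rw [mul_inv_eq_iff_eq_mul.mpr (hx2 _ w.2).eq]
                    _ = _ := (hVcomm _ (hconjV _ w.2) _ w.2).eq
                rcases hF v.1 h1 with h | h
                · left; rw [h]; rfl
                · right; exact h⟩) fun v w h => Subtype.ext (Subtype.ext (congrArg (fun z : ({(1 : G), t.1} : Set G) => (z : G)) h))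
          _ ≤ 2 := by
              rw [Nat.card_coe_set_eq]
              exact (Set.ncard_insert_le _ _).trans (by simp)
      have h4 : Nat.card V ≤ 4 := by
        rw [← g.ker.card_mul_index, index_ker]
        exact Nat.mul_le_mul hker hrange
      have := s.five
      omega
    · by_cases hqp : q = p
      · exact hstab t (hqp ▸ hqd)
      · exact hne' (hprime q hq hq2 hqp x hx)
  have hcardR : Nat.card R = p := by
    have h1 := (stabilizer R (mkI a ha haX)).card_mul_index
    rw [index_stabilizer_of_transitive, hcard, htriv, card_bot, one_mul] at h1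
    exact h1.symm
  refine ⟨s, comm, ?_, ?_, hcard⟩
  · intro x hx t ht ht2 hxt r hr hr2
    have h1 : (⟨φ ⟨x, hx⟩, _, rfl⟩ : R) ∈ stabilizer R (mkI t ht2 ht) :=
      (hφ ⟨x, hx⟩ (mkI t ht2 ht)).mpr hxt
    rw [htriv, Subgroup.mem_bot] at h1
    exact (hφ1 ⟨x, hx⟩).mp (congrArg Subtype.val h1) r hr hr2
  · intro x hx y hy t ht ht2
    haveI : IsCyclic R := isCyclic_of_prime_card hcardR
    have hc : ∀ u v : R, Commute u v := fun u v => by
      obtain ⟨g, hg⟩ := IsCyclic.exists_generator (α := R)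
      obtain ⟨i, rfl⟩ := mem_zpowers_iff.mp (hg u)
      obtain ⟨j, rfl⟩ := mem_zpowers_iff.mp (hg v)
      exact Commute.zpow_zpow_self g i j
    have h1 := (hc (φ.rangeRestrict ⟨x, hx⟩) (φ.rangeRestrict ⟨y, hy⟩)).eq
    have h2 : φ (⟨x, hx⟩ * ⟨y, hy⟩ * (⟨x, hx⟩ : X)⁻¹ * (⟨y, hy⟩ : X)⁻¹) = 1 := by
      have h3 : φ ⟨x, hx⟩ * φ ⟨y, hy⟩ = φ ⟨y, hy⟩ * φ ⟨x, hx⟩ := congrArg Subtype.val h1
      rw [map_mul, map_mul, map_mul, map_inv, map_inv, h3]
      group
    exact (hφ1 _).mp h2 t ht ht2

end H9.NilHall
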