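import Cfsg.Agent.H9.NilHall.CaseTwo

/-!
A minimal configuration has no strongly embedded subgroup with two commuting involutions.
-/

set_option autoImplicit false
set_option linter.style.haveILetI false
set_option linter.unusedSectionVars false

namespace H9.NilHall

open Subgroup Cfsg MulAction

universe u

variable {G : Type u} [Group G] [Finite G] {p : ℕ} {X : Subgroup G}

theorem mem_conj_inf {u : G} (hu : orderOf u = 2) (d : G) :
    d ∈ X ⊓ X.map (MulAut.conj u).toMonoidHom ↔ d ∈ X ∧ u * d * u ∈ X := by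
  rw [mem_inf]
  refine and_congr_right fun _ => ?_
  rw [Subgroup.mem_map_equiv, MulAut.conj_symm_apply, inv_eq_of_mul_eq_one_right (H67.invol_sq hu)]

theorem conj_invol_mul {u : G} (hu : orderOf u = 2) (x y : G) :
    u * (x * y) * u = (u * x * u) * (u * y * u) := by
  rw [show (u * x * u) * (u * y * u) = u * x * (u * u) * y * u by group, H67.invol_sq hu, mul_one]
  group

theorem conj_invol_invol {u : G} (hu : orderOf u = 2) (x : G) : u * (u * x * u) * u = x := by
  rw [show u * (u * x * u) * u = (u * u) * x * (u * u) by group, H67.invol_sq hu, one_mul, mul_one]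

theorem conj_invol_inv {u : G} (hu : orderOf u = 2) (x : G) : u * x⁻¹ * u = (u * x * u)⁻¹ := by
  rw [mul_inv_rev, mul_inv_rev, inv_eq_of_mul_eq_one_right (H67.invol_sq hu), mul_assoc]

/-- An element of `X` commuting with the involutions of `X` and of `uXu` is trivial. -/
theorem SEB.eq_one_of_both (s : SEB p G X) {u d : G} (hu : orderOf u = 2) (huX : u ∉ X)
    (hd : ∀ t ∈ X, orderOf t = 2 → Commute d t)
    (hd' : ∀ t ∈ X, orderOf t = 2 → Commute (u * d * u) t) : d = 1 := by
  by_contra h1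
  obtain ⟨a, b, haX, hbX, ha, hb, hab, hne⟩ := s.four
  have hu' := inv_eq_of_mul_eq_one_right (H67.invol_sq hu)
  have h2 : Commute (u * a * u) d := by
    have h3 := (hd' a haX ha).map (MulAut.conj u).toMonoidHom
    simp only [MulEquiv.coe_toMonoidHom, MulAut.conj_apply, hu'] at h3
    rw [conj_invol_invol hu] at h3
    exact h3.symm
  have h4 := s.toSE.centralizer_le h1 ha hb haX hbX hab hne (hd a haX ha).symm (hd b hbX hb).symm h2
  refine huX ?_
  have := H65.se_conj_mem s.se (g := u) ha haX (by rw [hu']; exact h4)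
  exact this

/-- An involution of `X` inverts only elements of order dividing `4`. -/
theorem SEB.pow_four (s : SEB p G X) {t x : G} (ht : orderOf t = 2) (htX : t ∈ X) (hx : x ∈ X)
    (hinv : t * x * t = x⁻¹) : x ^ 4 = 1 := by
  have h1 : x * t * x⁻¹ * t = x * x := by
    rw [show x * t * x⁻¹ * t = x * (t * x⁻¹ * t) by group, conj_invol_inv ht, hinv, inv_inv]
  have h2 := s.comm (x * t * x⁻¹) t (mul_mem (mul_mem hx htX) (inv_mem hx)) htX
    (by rw [show x * t * x⁻¹ * (x * t * x⁻¹) = x * (t * t) * x⁻¹ by group, H67.invol_sq ht, mul_one,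
      mul_inv_cancel]) (H67.invol_sq ht)
  calc x ^ 4 = (x * x) * (x * x) := by rw [show (4 : ℕ) = 2 + 2 from rfl, pow_add, pow_two]
    _ = (x * t * x⁻¹) * (t * (x * t * x⁻¹)) * t := by rw [← h1]; group
    _ = (x * t * x⁻¹) * (x * t * x⁻¹ * t) * t := by rw [h2.eq]
    _ = x * (t * t) * x⁻¹ * (t * t) := by group
    _ = 1 := by rw [H67.invol_sq ht]; group

/-- An element of `X ∩ uXu` commuting with an involution of `X` is trivial. -/
theorem SEB.eq_one_of_one (s : SEB p G X) {u d : G} (hu : orderOf u = 2) (huX : u ∉ X) (hd : d ∈ X)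
    (hd' : u * d * u ∈ X) (hdt : ∀ t ∈ X, orderOf t = 2 → Commute d t) : d = 1 := by
  by_contra hd1
  obtain ⟨a, b, haX, hbX, ha, hb, hab, hne⟩ := s.four
  set e := u * d * u with he
  have hue : u * e * u = d := conj_invol_invol hu d
  have hde : Commute d e := by
    have h1 : d * e * d⁻¹ * e⁻¹ = 1 := by
      refine s.eq_one_of_both hu huX (fun t ht ht2 => s.derived d hd e hd' t ht ht2) fun t ht ht2 => ?_
      rw [conj_invol_mul hu, conj_invol_mul hu, conj_invol_mul hu, conj_invol_inv hu, conj_invol_inv hu,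
        hue, ← he]
      exact s.derived e hd' d hd t ht ht2
    have := mul_inv_eq_one.mp h1
    exact mul_inv_eq_iff_eq_mul.mp this
  set c := d * e with hc
  have hcu : Commute c u := by
    have h1 : u * c * u = c := by
      rw [hc, conj_invol_mul hu, hue, ← he, hde.eq]
    show c * u = u * c
    calc c * u = u * c * u * u := by rw [h1]
      _ = u * c * (u * u) := by group
      _ = u * c := by rw [H67.invol_sq hu, mul_one]
  have hu' := inv_eq_of_mul_eq_one_right (H67.invol_sq hu)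
  by_cases hc1 : c = 1
  · refine H67.se_inverted_no_invol s.se hu huX hd hd1 ?_ ha haX (hdt a haX ha).symm
    rw [hu', ← he]
    exact eq_inv_of_mul_eq_one_right hc1
  obtain ⟨g, hg⟩ := isConj_iff.mp (H67.se_isConj s.se ha hu)
  have hconj : ∀ {y z : G}, Commute y z → Commute (g⁻¹ * y * g) (g⁻¹ * z * g) := fun {y z} h => by
    simpa using h.map (MulAut.conj g⁻¹).toMonoidHom
  have hga : g⁻¹ * u * g = a := by rw [← hg]; group
  have hca : Commute (g⁻¹ * c * g) a := hga ▸ hconj hcu
  have hcX : g⁻¹ * c * g ∈ X := H67.se_centralizer_mem s.se ha haX hca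
  have hcb : Commute (g⁻¹ * c * g) b := s.cent _ hcX a haX ha hca b hbX hb
  have hc1' : g⁻¹ * c * g ≠ 1 := fun h => hc1 (by
    have := congrArg (fun z => g * z * g⁻¹) h
    simpa [mul_assoc] using this)
  have hdX : g⁻¹ * d * g ∈ X := s.toSE.centralizer_le hc1' ha hb haX hbX hab hne hca.symm hcb.symm
    (hconj ((Commute.refl d).mul_right hde))
  set d₁ := g⁻¹ * d * g with hd₁
  set w := d * e⁻¹ with hw
  have hwX : w ∈ X := mul_mem hd (inv_mem hd')
  have hw' : g⁻¹ * w * g = d₁ * a * d₁⁻¹ * a := by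
    rw [hw, hd₁, ← hga, he, ← conj_invol_inv hu]
    group
  have hw2 : w * w = 1 := by
    have hcm := s.comm (d₁ * a * d₁⁻¹) a (mul_mem (mul_mem hdX haX) (inv_mem hdX)) haX
      (by rw [show d₁ * a * d₁⁻¹ * (d₁ * a * d₁⁻¹) = d₁ * (a * a) * d₁⁻¹ by group, H67.invol_sq ha, mul_one,
        mul_inv_cancel]) (H67.invol_sq ha)
    have h1 : (g⁻¹ * w * g) * (g⁻¹ * w * g) = 1 := by
      rw [hw']
      calc d₁ * a * d₁⁻¹ * a * (d₁ * a * d₁⁻¹ * a)
          = (d₁ * a * d₁⁻¹) * (a * (d₁ * a * d₁⁻¹)) * a := by group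
        _ = (d₁ * a * d₁⁻¹) * (d₁ * a * d₁⁻¹ * a) * a := by rw [hcm.eq]
        _ = d₁ * (a * a) * d₁⁻¹ * (a * a) := by group
        _ = 1 := by rw [H67.invol_sq ha]; group
    have := congrArg (fun z => g * z * g⁻¹) h1
    simpa [mul_assoc] using this
  have huw : u * w * u = w := by
    have h1 : u * w * u = w⁻¹ := by
      rw [hw, conj_invol_mul hu, conj_invol_inv hu, hue, ← he, mul_inv_rev, inv_inv]
    rw [h1, inv_eq_of_mul_eq_one_right hw2]
  by_cases hw1 : w = 1
  · rw [hw, mul_inv_eq_one] at hw1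
    exact hd1 (s.eq_one_of_both hu huX hdt fun t ht ht2 => by rw [← he, ← hw1]; exact hdt t ht ht2)
  · refine huX (H67.se_centralizer_mem s.se (orderOf_eq_prime (by rw [pow_two, hw2]) hw1) hwX ?_)
    show u * w = w * u
    calc u * w = u * w * (u * u) := by rw [H67.invol_sq hu, mul_one]
      _ = u * w * u * u := by group
      _ = w * u := by rw [huw]

/-- The intersection of `X` with `uXu` has order `p` and is inverted by `u`. -/
theorem SEB.inter (s : SEB p G X) {u : G} (hu : orderOf u = 2) (huX : u ∉ X) :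
    Nat.card ↥(X ⊓ X.map (MulAut.conj u).toMonoidHom) = p ∧
      ∀ d ∈ X, u * d * u ∈ X → u * d * u = d⁻¹ := by
  set D := X ⊓ X.map (MulAut.conj u).toMonoidHom with hD
  obtain ⟨a, b, haX, hbX, ha, hb, -, -⟩ := s.four
  haveI : Finite (H67.involIn X) := Subtype.finite
  haveI : Finite (H67.involTo X u) := Subtype.finite
  have huu : u⁻¹ * u ∈ X := by rw [inv_mul_cancel]; exact one_mem X
  have hz : ∀ i : H67.involTo X u, u * i.1 ∈ X := fun i => H67.mul_mem_of_involTo hu huu i.2.2
  have hzu : ∀ i : H67.involTo X u, u * (u * i.1) * u = (u * i.1)⁻¹ := fun ⟨i, hi, _⟩ => by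
    show u * (u * i) * u = (u * i)⁻¹
    rw [mul_inv_rev, inv_eq_of_mul_eq_one_right (H67.invol_sq hi),
      inv_eq_of_mul_eq_one_right (H67.invol_sq hu), ← mul_assoc u u i, H67.invol_sq hu, one_mul]
  let f : H67.involTo X u → D := fun i =>
    ⟨u * i.1, (mem_conj_inf hu _).mpr ⟨hz i, (hzu i).symm ▸ inv_mem (hz i)⟩⟩
  have hf : Function.Injective f := fun i j h => Subtype.ext (mul_left_cancel (congrArg Subtype.val h))
  let k : D → H67.involIn X := fun d =>
    ⟨d.1 * a * d.1⁻¹, H67.invol_conj ha _, mul_mem (mul_mem d.2.1 haX) (inv_mem d.2.1)⟩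
  have hk : Function.Injective k := fun d e h => by
    have h1 : d.1 * a * d.1⁻¹ = e.1 * a * e.1⁻¹ := congrArg Subtype.val h
    have hde := (mem_conj_inf hu _).mp (mul_mem (inv_mem e.2) d.2)
    have h2 : Commute (e.1⁻¹ * d.1) a := by
      show e.1⁻¹ * d.1 * a = a * (e.1⁻¹ * d.1)
      calc e.1⁻¹ * d.1 * a = e.1⁻¹ * (d.1 * a * d.1⁻¹) * d.1 := by group
        _ = e.1⁻¹ * (e.1 * a * e.1⁻¹) * d.1 := by rw [h1]
        _ = _ := by group
    exact Subtype.ext (inv_mul_eq_one.mp (s.eq_one_of_one hu huX hde.1 hde.2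
      (s.cent _ hde.1 a haX ha h2))).symm
  have h1 : Nat.card D ≤ p := s.card_invol ▸ Nat.card_le_card_of_injective k hk
  have h2 : p ≤ Nat.card D := by
    rw [← s.card_invol, ← H67.card_involTo s.se huX]
    exact Nat.card_le_card_of_injective f hf
  refine ⟨le_antisymm h1 h2, fun d hd hd' => ?_⟩
  have hb' := hf.bijective_of_nat_card_le (by rw [H67.card_involTo s.se huX, s.card_invol]; exact h1)
  obtain ⟨i, hi⟩ := hb'.2 ⟨d, (mem_conj_inf hu d).mpr ⟨hd, hd'⟩⟩
  have h3 : u * i.1 = d := congrArg Subtype.val hi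
  rw [← h3]
  exact hzu i

/-- The centralizer of an element of `(X ∩ uXu)#` is `X ∩ uXu`. -/
theorem SEB.centralizer_inter (s : SEB p G X) {u x : G} (hu : orderOf u = 2) (huX : u ∉ X)
    (hx : x ∈ X) (hx' : u * x * u ∈ X) (hx1 : x ≠ 1) :
    orderOf x = p ∧ ∀ c : G, Commute c x → c ∈ X ∧ u * c * u ∈ X := by
  haveI := Fact.mk s.hp
  have hinv := (s.inter hu huX).2 x hx hx'
  have hord : orderOf x = p := by
    refine ((Nat.dvd_prime s.hp).mp ?_).resolve_left fun h => hx1 (orderOf_eq_one_iff.mp h)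
    rw [← (s.inter hu huX).1]
    exact Subgroup.orderOf_dvd_natCard _ ((mem_conj_inf hu x).mpr ⟨hx, hx'⟩)
  refine ⟨hord, ?_⟩
  have h4 : ∀ z : G, orderOf z = p → z ^ 4 = 1 → False := fun z hz h => by
    have := Nat.le_of_dvd (by norm_num) (hz ▸ orderOf_dvd_of_pow_eq_one h)
    have := s.five
    omega
  have hu' := inv_eq_of_mul_eq_one_right (H67.invol_sq hu)
  obtain ⟨a, b, haX, hbX, ha, hb, hab, hne⟩ := s.four
  obtain ⟨g, hg⟩ := isConj_iff.mp (H67.se_isConj s.se ha hu)
  set C := centralizer ({x} : Set G) with hC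
  have hCu : ∀ c ∈ C, u * c * u ∈ C := fun c hc => by
    refine mem_centralizer_singleton_iff.mpr ?_
    have hcx : Commute c x := mem_centralizer_singleton_iff.mp hc
    have h1 := hcx.inv_right.map (MulAut.conj u).toMonoidHom
    simp only [MulEquiv.coe_toMonoidHom, MulAut.conj_apply, hu'] at h1
    rw [conj_invol_inv hu, hinv, inv_inv] at h1
    exact h1.eq
  let σ : C →* C := MonoidHom.mk' (fun c => ⟨u * c.1 * u, hCu _ c.2⟩)
    fun c d => Subtype.ext (conj_invol_mul hu c.1 d.1)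
  have hσ : MonoidHom.FixedPointFree σ := by
    intro c hc
    by_contra hc1
    have hcu : Commute c.1 u := by
      have h1 : u * c.1 * u = c.1 := congrArg Subtype.val hc
      show c.1 * u = u * c.1
      calc c.1 * u = u * c.1 * u * u := by rw [h1]
        _ = u * c.1 * (u * u) := by group
        _ = u * c.1 := by rw [H67.invol_sq hu, mul_one]
    have hconj : ∀ {y z : G}, Commute y z → Commute (g⁻¹ * y * g) (g⁻¹ * z * g) := fun {y z} h => by
      simpa using h.map (MulAut.conj g⁻¹).toMonoidHom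
    have hga : g⁻¹ * u * g = a := by rw [← hg]; group
    have hca : Commute (g⁻¹ * c.1 * g) a := hga ▸ hconj hcu
    have hcX := H67.se_centralizer_mem s.se ha haX hca
    have hc1' : g⁻¹ * c.1 * g ≠ 1 := fun h => hc1 (Subtype.ext (by
      have := congrArg (fun z => g * z * g⁻¹) h
      simpa [mul_assoc] using this))
    have hxX : g⁻¹ * x * g ∈ X := s.toSE.centralizer_le hc1' ha hb haX hbX hab hne hca.symm
      (s.cent _ hcX a haX ha hca b hbX hb).symm
      (hconj (mem_centralizer_singleton_iff.mp c.2 : Commute c.1 x).symm)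
    refine h4 (g⁻¹ * x * g) (by simpa using (MulEquiv.orderOf_eq (MulAut.conj g⁻¹) x).trans hord)
      (s.pow_four ha haX hxX ?_)
    rw [← hga, show (g⁻¹ * x * g)⁻¹ = g⁻¹ * x⁻¹ * g by group, ← hinv]
    group
  have hinvC : ∀ c ∈ C, u * c * u = c⁻¹ := fun c hc => congrArg Subtype.val
    (congrFun (hσ.coe_eq_inv_of_involutive fun d => Subtype.ext (conj_invol_invol hu d.1)) ⟨c, hc⟩)
  have hcomm : ∀ c ∈ C, ∀ d ∈ C, Commute c d := fun c hc d hd => by
    have h1 := hinvC _ (mul_mem hc hd)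
    rw [conj_invol_mul hu, hinvC c hc, hinvC d hd, mul_inv_rev] at h1
    exact (Commute.inv_inv_iff.mp h1)
  intro c hcx
  have hcC : c ∈ C := mem_centralizer_singleton_iff.mpr hcx.eq
  suffices hcX : c ∈ X from ⟨hcX, (hinvC c hcC).symm ▸ inv_mem hcX⟩
  by_contra hcX
  obtain ⟨i, hi, hci⟩ := H67.exists_involTo s.se hcX
  have hi' := inv_eq_of_mul_eq_one_right (H67.invol_sq hi)
  have hiX : i ∉ X := fun h => hcX (by
    have := mul_mem h (inv_mem hci)
    rwa [mul_inv_rev, inv_inv, mul_inv_cancel_left] at this)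
  set y := c⁻¹ * i with hy
  have hixX : i * x * i ∈ X := by
    have h1 : i⁻¹ * x * i = y⁻¹ * x * y := by
      rw [hy, mul_inv_rev, inv_inv]
      calc i⁻¹ * x * i = i⁻¹ * (x * c) * (c⁻¹ * i) := by group
        _ = i⁻¹ * (c * x) * (c⁻¹ * i) := by rw [hcx.eq]
        _ = _ := by group
    rw [hi'] at h1
    rw [h1]
    exact mul_mem (mul_mem (inv_mem hci) hx) hci
  have hiinv : i * x * i = x⁻¹ := (s.inter hi hiX).2 x hx hixX
  have huiC : u * i ∈ C := by
    refine mem_centralizer_singleton_iff.mpr (mul_inv_eq_iff_eq_mul.mp ?_)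
    rw [mul_inv_rev, hi', hu', show u * i * x * (i * u) = u * (i * x * i) * u by group, hiinv,
      conj_invol_inv hu, hinv, inv_inv]
  have hici : i * c⁻¹ * i = c := by
    have h1 := hcomm _ huiC _ (inv_mem hcC)
    calc i * c⁻¹ * i = u * ((u * i) * c⁻¹ * (u * i)⁻¹) * u := by
          rw [mul_inv_rev, hi', hu', show u * (u * i * c⁻¹ * (i * u)) * u = (u * u) * (i * c⁻¹ * i) * (u * u) by group,
            H67.invol_sq hu, one_mul, mul_one]
      _ = u * c⁻¹ * u := by rw [h1.eq, mul_inv_cancel_right]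
      _ = c := by rw [conj_invol_inv hu, hinvC c hcC, inv_inv]
  have hyy : y * y = 1 := by
    rw [hy, show c⁻¹ * i * (c⁻¹ * i) = c⁻¹ * (i * c⁻¹ * i) by group, hici, inv_mul_cancel]
  have hy' := inv_eq_of_mul_eq_one_right hyy
  have hyinv : y * x * y = x⁻¹ := by
    calc y * x * y = y * x * y⁻¹ := by rw [hy']
      _ = c⁻¹ * (i * x * i) * c := by rw [hy, mul_inv_rev, inv_inv, hi']; group
      _ = c⁻¹ * (x⁻¹ * c) := by rw [hiinv, mul_assoc]
      _ = x⁻¹ := by rw [← hcx.inv_right.eq, inv_mul_cancel_left]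
  have hy1 : y ≠ 1 := fun h => by
    rw [h, one_mul, mul_one] at hyinv
    refine h4 x hord ?_
    rw [show (4 : ℕ) = 2 + 2 from rfl, pow_add, pow_two]
    nth_rw 2 [hyinv]
    nth_rw 4 [hyinv]
    rw [mul_inv_cancel, one_mul]
  exact h4 x hord (s.pow_four (orderOf_eq_prime (by rw [pow_two, hyy]) hy1) hci hx hyinv)

/-- No such configuration exists. -/
theorem SE.contra (se : SE p G X) : False := by
  classical
  have s := se.toSEB
  haveI := Fact.mk s.hp
  haveI := Fact.mk Nat.prime_two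
  obtain ⟨t, htX, ht⟩ := H67.se_exists_invol_mem s.se
  obtain ⟨u, hu, huX⟩ := H67.se_exists_invol_not_mem s.se
  set D := X ⊓ X.map (MulAut.conj u).toMonoidHom with hD
  have hDp : Nat.card D = p := (s.inter hu huX).1
  -- the Sylow subgroups have order `p`
  obtain ⟨P, hDP⟩ := (IsPGroup.of_card (n := 1) (by rw [pow_one]; exact hDp) : IsPGroup p D).exists_le_sylow
  haveI : Nontrivial (P : Subgroup G) := by
    rw [← Finite.one_lt_card_iff_nontrivial]
    exact lt_of_lt_of_le (hDp ▸ s.hp.one_lt) (Nat.le_of_dvd Nat.card_pos (card_dvd_of_le hDP))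
  haveI := P.2.center_nontrivial
  obtain ⟨⟨⟨z, hzP⟩, hz⟩, hz1⟩ := exists_ne (1 : center (P : Subgroup G))
  obtain ⟨⟨x, hxD⟩, hx1⟩ : ∃ x : D, x ≠ 1 := by
    haveI : Nontrivial D := by rw [← Finite.one_lt_card_iff_nontrivial, hDp]; exact s.hp.one_lt
    exact exists_ne 1
  have hx1' : x ≠ 1 := fun h => hx1 (Subtype.ext h)
  have hxD' := (mem_conj_inf hu x).mp hxD
  have hcx : Commute z x :=
    (congrArg Subtype.val (mem_center_iff.mp hz ⟨x, hDP hxD⟩)).symm
  have hzD := (s.centralizer_inter hu huX hxD'.1 hxD'.2 hx1').2 z hcx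
  have hz1' : z ≠ 1 := fun h => hz1 (Subtype.ext (Subtype.ext h))
  have hPD : (P : Subgroup G) = D := le_antisymm (fun w hw => (mem_conj_inf hu w).mpr
    ((s.centralizer_inter hu huX hzD.1 hzD.2 hz1').2 w
      (congrArg Subtype.val (mem_center_iff.mp hz ⟨w, hw⟩)))) hDP
  -- counting
  haveI : Fintype (G ⧸ X) := Fintype.ofFinite _
  set o : G ⧸ X := ((1 : G) : G ⧸ X) with ho
  have hout : ∀ a : {a : G ⧸ X // a ≠ o}, (a.1.out : G) ∉ X := fun a h => a.2 (by
    show a.1 = ((1 : G) : G ⧸ X)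
    rw [← QuotientGroup.out_eq' a.1, QuotientGroup.eq, mul_one]; exact inv_mem h)
  let h : {a : G ⧸ X // a ≠ o} → G := fun a => a.1.out⁻¹ * t * a.1.out
  have hh : ∀ a, orderOf (h a) = 2 ∧ h a ∉ X := fun a => ⟨by
    simpa [h] using H67.invol_conj ht (a.1.out)⁻¹, fun hm => hout a (H65.se_conj_mem s.se ht htX hm)⟩
  let K : {a : G ⧸ X // a ≠ o} → Type u := fun a =>
    {d : ↥(X ⊓ X.map (MulAut.conj (h a)).toMonoidHom) // d ≠ 1}
  haveI : ∀ a, Finite (K a) := fun a => Subtype.finite
  haveI : ∀ a : {a : G ⧸ X // a ≠ o}, Finite (H67.involTo X a.1.out) := fun a => Subtype.finite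
  have hK : ∀ a, Nat.card (K a) = p - 1 := by
    intro a
    haveI : Fintype ↥(X ⊓ X.map (MulAut.conj (h a)).toMonoidHom) := Fintype.ofFinite _
    show Nat.card {d : ↥(X ⊓ X.map (MulAut.conj (h a)).toMonoidHom) // d ≠ 1} = p - 1
    rw [Nat.card_eq_fintype_card, Fintype.card_subtype_compl, Fintype.card_subtype_eq,
      ← Nat.card_eq_fintype_card, (s.inter (hh a).1 (hh a).2).1]
  have key : ∀ (a : {a : G ⧸ X // a ≠ o}) (i : H67.involTo X a.1.out),
      ∃ b : {a : G ⧸ X // a ≠ o}, ∃ d : K b, t * i.1 = b.1.out * (d.1 : G) * (b.1.out)⁻¹ := by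
    intro a i
    have hiX : i.1 ∉ X := fun hm => hout a (by
      have := mul_mem hm (inv_mem i.2.2)
      rwa [mul_inv_rev, inv_inv, mul_inv_cancel_left] at this)
    set y := t * i.1 with hy
    have ht' := inv_eq_of_mul_eq_one_right (H67.invol_sq ht)
    have hi' := inv_eq_of_mul_eq_one_right (H67.invol_sq i.2.1)
    have hyinv : t * y * t = y⁻¹ := by
      rw [hy, mul_inv_rev, ht', hi', ← mul_assoc t t i.1, H67.invol_sq ht, one_mul]
    have hy1 : y ≠ 1 := fun e => hiX (by
      have := eq_inv_of_mul_eq_one_right e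
      rw [ht'] at this
      exact this ▸ htX)
    have hodd : Odd (orderOf y) := by
      rw [← Nat.not_even_iff_odd, even_iff_two_dvd]
      intro h2
      set w := y ^ (orderOf y / 2) with hw
      have hw2 : orderOf w = 2 := by
        rw [hw, orderOf_pow_of_dvd (by have := orderOf_pos y; omega) (Nat.div_dvd_of_dvd h2),
          Nat.div_div_self h2 (orderOf_pos y).ne']
      have hw' := inv_eq_of_mul_eq_one_right (H67.invol_sq hw2)
      have h1 : t * w * t = w := by
        rw [hw]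
        conv_lhs => rw [show t * y ^ (orderOf y / 2) * t = t * y ^ (orderOf y / 2) * t⁻¹ by rw [ht'],
          ← conj_pow, ht', hyinv, inv_pow, ← hw, hw']
      have htw : Commute w t := by
        show w * t = t * w
        calc w * t = t * w * t * t := by rw [h1]
          _ = t * w * (t * t) := by group
          _ = t * w := by rw [H67.invol_sq ht, mul_one]
      have hwX : w ∈ X := H67.se_centralizer_mem s.se ht htX htw
      refine hiX (H67.se_centralizer_mem s.se hw2 hwX ?_)
      have hwy : Commute y w := (Commute.refl y).pow_right _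
      have hti : i.1 = t * y := by rw [hy, ← mul_assoc, H67.invol_sq ht, one_mul]
      rw [hti]
      exact htw.symm.mul_left hwy
    obtain ⟨k, hk⟩ := s.nil.inverted_ppow s.hp s.ne_two ht hodd (by rw [ht']; exact hyinv)
    have hyp : IsPGroup p (zpowers y) := IsPGroup.of_card (n := k) (by rw [Nat.card_zpowers, hk])
    obtain ⟨P', hP'⟩ := hyp.exists_le_sylow
    obtain ⟨g, hg⟩ := MulAction.exists_smul_eq G P P'
    have hyg : y ∈ ((g • P : Sylow p G) : Subgroup G) := by rw [hg]; exact hP' (mem_zpowers y)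
    rw [Sylow.coe_subgroup_smul] at hyg
    obtain ⟨d, hdP, hdy⟩ := hyg
    rw [SetLike.mem_coe, hPD, mem_conj_inf hu] at hdP
    have hdy' : y = g * d * g⁻¹ := hdy.symm
    have hfix1 : y • ((g : G) : G ⧸ X) = ((g : G) : G ⧸ X) := by
      rw [H65.smul_coset_eq_iff, hdy', show g⁻¹ * (g * d * g⁻¹) * g = d by group]
      exact hdP.1
    have hfix2 : y • ((g * u : G) : G ⧸ X) = ((g * u : G) : G ⧸ X) := by
      rw [H65.smul_coset_eq_iff, hdy', mul_inv_rev, inv_eq_of_mul_eq_one_right (H67.invol_sq hu),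
        show u * g⁻¹ * (g * d * g⁻¹) * (g * u) = u * d * u by group]
      exact hdP.2
    obtain ⟨b, hbo, hb⟩ : ∃ b : G ⧸ X, b ≠ o ∧ y • b = b := by
      by_cases hgo : ((g : G) : G ⧸ X) = o
      · refine ⟨((g * u : G) : G ⧸ X), fun e => huX ?_, hfix2⟩
        rw [← hgo, QuotientGroup.eq, mul_inv_rev, mul_assoc, inv_mul_cancel, mul_one] at e
        simpa using inv_mem e
      · exact ⟨_, hgo, hfix1⟩
    refine ⟨⟨b, hbo⟩, ?_⟩
    set r := b.out with hr
    have hrX : r⁻¹ * y * r ∈ X := by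
      rw [← H65.smul_coset_eq_iff, hr, QuotientGroup.out_eq']; exact hb
    have hrX' : (r⁻¹ * t * r) * (r⁻¹ * y * r) * (r⁻¹ * t * r) ∈ X := by
      rw [show (r⁻¹ * t * r) * (r⁻¹ * y * r) * (r⁻¹ * t * r) = r⁻¹ * (t * y * t) * r by group, hyinv,
        show r⁻¹ * y⁻¹ * r = (r⁻¹ * y * r)⁻¹ by group]
      exact inv_mem hrX
    refine ⟨⟨⟨r⁻¹ * y * r, (mem_conj_inf (hh ⟨b, hbo⟩).1 _).mpr ⟨hrX, hrX'⟩⟩, fun e => hy1 ?_⟩, ?_⟩
    · have := congrArg (fun z => r * z * r⁻¹) (congrArg Subtype.val e : r⁻¹ * y * r = 1)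
      simpa [mul_assoc] using this
    · show y = r * (r⁻¹ * y * r) * r⁻¹
      group
  choose B Dd hBD using key
  let F : (Σ a : {a : G ⧸ X // a ≠ o}, H67.involTo X a.1.out) → Σ b : {a : G ⧸ X // a ≠ o}, K b :=
    fun z => ⟨B z.1 z.2, Dd z.1 z.2⟩
  have hF : Function.Injective F := by
    rintro ⟨a, i⟩ ⟨a', i'⟩ e
    have h1 : t * i.1 = t * i'.1 := by
      have h2 := congrArg (fun z : Σ b : {a : G ⧸ X // a ≠ o}, K b => (z.1.1.out * (z.2.1 : G) * (z.1.1.out)⁻¹)) e
      simp only [F] at h2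
      rw [hBD a i, hBD a' i']
      exact h2
    have h3 := mul_left_cancel h1
    have ha : a = a' := Subtype.ext (by
      rw [← QuotientGroup.out_eq' a.1, ← QuotientGroup.out_eq' a'.1, QuotientGroup.eq]
      have := mul_mem i.2.2 (inv_mem i'.2.2)
      rw [h3, mul_inv_rev, inv_inv] at this
      rwa [mul_assoc, mul_inv_cancel_left] at this)
    subst ha
    exact congrArg (Sigma.mk a) (Subtype.ext h3)
  have hle := Nat.card_le_card_of_injective F hF
  rw [Nat.card_sigma, Nat.card_sigma, Finset.sum_congr rfl (fun a _ => (H67.card_involTo s.se (hout a)).trans s.card_invol),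
    Finset.sum_congr rfl (fun a _ => hK a), Finset.sum_const, Finset.sum_const, smul_eq_mul, smul_eq_mul] at hle
  have hne : Nonempty {a : G ⧸ X // a ≠ o} := ⟨⟨((u : G) : G ⧸ X), fun e => huX (by
    rw [ho, QuotientGroup.eq, mul_one] at e; simpa using inv_mem e)⟩⟩
  have hpos : 0 < (Finset.univ : Finset {a : G ⧸ X // a ≠ o}).card := Finset.card_pos.mpr Finset.univ_nonempty
  have := s.five
  have := Nat.le_of_mul_le_mul_left hle hpos
  omega

end H9.NilHall
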