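import Cfsg.Agent.H9.NilHall.Local
import Cfsg.Agent.H85.BrauerSuzuki
import Cfsg.Agent.H6.FusionZJ
import Cfsg.Agent.H1.ThompsonTools

/-!
If `N(J(S))` centralizes `Ω₁(Z(S))`, then `C(Ω₁(Z(S)))` controls the 2-fusion, against Glauberman.
-/

set_option autoImplicit false
set_option linter.style.haveILetI false
set_option linter.unusedSectionVars false

namespace H9.NilHall

open Subgroup Cfsg

universe u

variable {G : Type u} [Group G] [Finite G] {p : ℕ}

/-- `N(R) = O (N(R) ∩ K)` for some subgroup `O` of odd order normalized by `N(R)`. -/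
def Factor (K R : Subgroup G) : Prop :=
  ∃ O : Subgroup G, Odd (Nat.card O) ∧ O ≤ normalizer (R : Set G) ∧
    normalizer (R : Set G) ≤ normalizer (O : Set G) ∧
      ∀ n ∈ normalizer (R : Set G), ∃ o ∈ O, ∃ x ∈ normalizer (R : Set G) ⊓ K, n = o * x

theorem conj_mem_normalizer {A : Subgroup G} (k : G) {x : G} :
    k * x * k⁻¹ ∈ normalizer ((A.map (MulAut.conj k).toMonoidHom : Subgroup G) : Set G) ↔
      x ∈ normalizer (A : Set G) := by
  rw [mem_normalizer_iff, mem_normalizer_iff]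
  have hm : ∀ y : G, y ∈ A.map (MulAut.conj k).toMonoidHom ↔ k⁻¹ * y * k ∈ A := fun y => by
    rw [Subgroup.mem_map_equiv, MulAut.conj_symm_apply]
  constructor
  · intro h y
    have := h (k * y * k⁻¹)
    rw [hm, hm] at this
    simpa [mul_assoc] using this
  · intro h y
    rw [hm, hm]
    have := h (k⁻¹ * y * k)
    simpa [mul_assoc] using this

theorem Factor.conj {K R : Subgroup G} {k : G} (hk : k ∈ K)
    (h : Factor K (R.map (MulAut.conj k).toMonoidHom)) : Factor K R := by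
  obtain ⟨O, hO, hON, hNO, hfac⟩ := h
  set O' := O.map (MulAut.conj k⁻¹).toMonoidHom with hO'
  have hm : ∀ y : G, y ∈ O' ↔ k * y * k⁻¹ ∈ O := fun y => by
    rw [hO', Subgroup.mem_map_equiv, MulAut.conj_symm_apply, inv_inv]
  refine ⟨O', ?_, fun y hy => ?_, fun y hy => ?_, fun n hn => ?_⟩
  · rwa [hO', card_map_of_injective (MulAut.conj k⁻¹).injective]
  · exact (conj_mem_normalizer k).mp (hON ((hm y).mp hy))
  · rw [hO', show y = k⁻¹ * (k * y * k⁻¹) * k⁻¹⁻¹ by group]
    exact (conj_mem_normalizer k⁻¹).mpr (hNO ((conj_mem_normalizer k).mpr hy))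
  · obtain ⟨o, ho, x, hx, hox⟩ := hfac _ ((conj_mem_normalizer k).mpr hn)
    refine ⟨k⁻¹ * o * k, (hm _).mpr (by simpa [mul_assoc] using ho), k⁻¹ * x * k, ⟨?_, ?_⟩, ?_⟩
    · refine (conj_mem_normalizer k).mp ?_
      simpa [mul_assoc] using (mem_inf.mp hx).1
    · show k⁻¹ * x * k ∈ K
      exact mul_mem (mul_mem (inv_mem hk) (mem_inf.mp hx).2) hk
    · calc n = k⁻¹ * (k * n * k⁻¹) * k := by group
        _ = k⁻¹ * (o * x) * k := by rw [hox]
        _ = k⁻¹ * o * k * (k⁻¹ * x * k) := by group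

theorem Min.pgroup_ne_top (m : Min p G) {R : Subgroup G} (hR : IsPGroup 2 R) : R ≠ ⊤ := by
  haveI := Fact.mk Nat.prime_two
  rintro rfl
  haveI : Group.IsNilpotent G := (hR.of_equiv (topEquiv : (⊤ : Subgroup G) ≃* G)).isNilpotent
  exact m.nonsol inferInstance

theorem thompsonSubgroupOf_two_ne_bot {T : Subgroup G} (hT : IsPGroup 2 T) (hT1 : T ≠ ⊥) :
    Cfsg.thompsonSubgroupOf 2 T ≠ ⊥ := by
  haveI : Fact (Nat.Prime 2) := ⟨Nat.prime_two⟩
  rw [Cfsg.thompsonSubgroupOf, Ne, map_eq_bot_iff_of_injective _ T.subtype_injective]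
  exact H10.thompsonSubgroup_ne_bot (hT.card_eq_or_dvd.resolve_left fun h => hT1 (card_eq_one.mp h))

/-- The factorization of the normalizers of the nontrivial subgroups of `S`. -/
theorem Min.factor (m : Min p G) (S : Sylow 2 G) {K : Subgroup G}
    (hC : centralizer (H10.omegaCenterOf 2 (S : Subgroup G) : Set G) ≤ K)
    (hJ : normalizer (Cfsg.thompsonSubgroupOf 2 (S : Subgroup G) : Set G) ≤ K) :
    ∀ R : Subgroup G, R ≤ (S : Subgroup G) → R ≠ ⊥ → Factor K R := by
  haveI := Fact.mk Nat.prime_two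
  have hSK : (S : Subgroup G) ≤ K :=
    (le_normalizer.trans (H1.normalizer_le_normalizer_thompsonSubgroupOf 2 _)).trans hJ
  suffices main : ∀ d : ℕ, ∀ R : Subgroup G, R ≤ (S : Subgroup G) → R ≠ ⊥ →
      Nat.card (S : Subgroup G) - Nat.card ↥((S : Subgroup G) ⊓ normalizer (R : Set G)) = d → Factor K R from
    fun R hR hR1 => main _ R hR hR1 rfl
  intro d
  induction d using Nat.strong_induction_on with
  | _ d ih =>
  intro R hRS hR1 hd
  set L := normalizer (R : Set G) with hL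
  set T := (S : Subgroup G) ⊓ L with hT
  have hTS : T ≤ (S : Subgroup G) := inf_le_left
  have hTL : T ≤ L := inf_le_right
  have hRT : R ≤ T := le_inf hRS le_normalizer
  have hTp : IsPGroup 2 T := S.2.to_le hTS
  have hRp : IsPGroup 2 R := S.2.to_le hRS
  have hT1 : T ≠ ⊥ := fun h => hR1 (le_bot_iff.mp (h ▸ hRT))
  have hbig : ∀ U : Subgroup G, U ≤ (S : Subgroup G) → U ≠ ⊥ →
      Nat.card T < Nat.card ↥((S : Subgroup G) ⊓ normalizer (U : Set G)) → Factor K U := by
    intro U hU hU1 hlt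
    refine ih _ ?_ U hU hU1 rfl
    have h2 := card_le_of_le (inf_le_left : (S : Subgroup G) ⊓ normalizer (U : Set G) ≤ S)
    omega
  have hfun : T ≠ (S : Subgroup G) → ∀ U : Subgroup G, U ≤ (S : Subgroup G) → U ≠ ⊥ →
      normalizer (T : Set G) ≤ normalizer (U : Set G) → Factor K U := by
    intro hne U hU hU1 hle
    have h1 := H73.lt_inf_normalizer S.2 (lt_of_le_of_ne hTS hne)
    refine hbig U hU hU1 (lt_of_lt_of_le ?_ (card_le_of_le (inf_le_inf_left _ hle)))
    exact lt_of_le_of_ne (card_le_of_le h1.le) fun h => h1.ne (eq_of_le_of_card_ge h1.le h.ge)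
  have hLtop : L ≠ ⊤ := m.normalizer_ne_top hR1 (m.pgroup_ne_top hRp)
  haveI := m.sol L hLtop
  haveI := H1.pPrimeCore_normal' 2 L
  haveI := H1.pPrimeCore_characteristic 2 L
  obtain ⟨P, hP⟩ := (hTp.of_equiv (subgroupOfEquivOfLe hTL).symm).exists_le_sylow
  set T' := (P : Subgroup L).map L.subtype with hT'
  have hTT' : T ≤ T' := fun t ht => ⟨⟨t, hTL ht⟩, hP (mem_subgroupOf.mpr ht), rfl⟩
  have hT'p : IsPGroup 2 T' := P.2.map _
  rcases hTT'.eq_or_lt with hTe | hTlt
  swap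
  · -- move a larger 2-subgroup of `L` into `K`
    have hne : T ≠ (S : Subgroup G) := by
      intro h
      refine hTlt.ne (eq_of_le_of_card_ge hTT' ?_)
      rw [h]
      obtain ⟨S', hS'⟩ := hT'p.exists_le_sylow
      calc Nat.card T' ≤ Nat.card (S' : Subgroup G) := card_le_of_le hS'
        _ = _ := by rw [S'.card_eq_multiplicity, S.card_eq_multiplicity]
    obtain ⟨O, hO, hON, hNO, hfac⟩ := hfun hne T hTS hT1 le_rfl
    set U := T' ⊓ normalizer (T : Set G) with hU
    have hTU : T < U := H73.lt_inf_normalizer hT'p hTlt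
    obtain ⟨o, ho, hoU⟩ := exists_conj_into hO hON hfac (hT'p.to_le inf_le_left)
      (inf_le_right : U ≤ normalizer (T : Set G))
    have hoT : ∀ t ∈ T, o * t * o⁻¹ = t := fun t ht => by
      rw [(commute_odd hO hTp hON (le_normalizer.trans hNO) ho ht).eq, mul_inv_cancel_right]
    have hoL : o ∈ L := by
      refine Cfsg.Comp.mem_normalizer_of_map_conj_eq ?_
      refine eq_of_le_of_card_ge ?_ (card_map_of_injective (MulAut.conj o).injective).ge
      rintro _ ⟨r, hr, rfl⟩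
      show o * r * o⁻¹ ∈ R
      rw [hoT r (hRT hr)]
      exact hr
    set U' := U.map (MulAut.conj o).toMonoidHom with hU'
    have hU'K : U' ≤ K := by
      rintro _ ⟨w, hw, rfl⟩
      exact (mem_inf.mp (hoU w hw)).2
    obtain ⟨P2, hP2⟩ := (((hT'p.to_le inf_le_left).map (MulAut.conj o).toMonoidHom).of_equiv
      (subgroupOfEquivOfLe hU'K).symm).exists_le_sylow
    obtain ⟨k, hk⟩ := MulAction.exists_smul_eq K P2 (S.subtype hSK)
    have hkU : ∀ w ∈ U', (k : G) * w * (k : G)⁻¹ ∈ (S : Subgroup G) := by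
      intro w hw
      have h1 : k * (⟨w, hU'K hw⟩ : K) * k⁻¹ ∈ (S.subtype hSK : Subgroup K) := by
        rw [← hk, Sylow.coe_subgroup_smul]
        exact ⟨_, hP2 (mem_subgroupOf.mpr hw), rfl⟩
      exact h1
    refine Factor.conj k.2 (hbig _ ?_ ?_ ?_)
    · rintro _ ⟨r, hr, rfl⟩
      refine hkU r ⟨r, hTU.le (hRT hr), hoT r (hRT hr)⟩
    · rwa [Ne, map_eq_bot_iff_of_injective _ (MulAut.conj (k : G)).injective]
    · have h1 : U'.map (MulAut.conj (k : G)).toMonoidHom ≤
          (S : Subgroup G) ⊓ normalizer ((R.map (MulAut.conj (k : G)).toMonoidHom : Subgroup G) : Set G) := by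
        rintro _ ⟨w, hw, rfl⟩
        refine ⟨hkU w hw, (conj_mem_normalizer (k : G)).mpr ?_⟩
        obtain ⟨v, hv, rfl⟩ := hw
        exact mul_mem (mul_mem hoL (map_subtype_le _ (mem_inf.mp hv).1)) (inv_mem hoL)
      refine lt_of_lt_of_le ?_ (card_le_of_le h1)
      rw [card_map_of_injective (MulAut.conj (k : G)).injective, hU',
        card_map_of_injective (MulAut.conj o).injective]
      exact lt_of_le_of_ne (card_le_of_le hTU.le) fun h => hTU.ne (eq_of_le_of_card_ge hTU.le h.ge)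
  -- `T` is a Sylow subgroup of `L`
  set O := (Cfsg.pPrimeCore 2 L).map L.subtype with hO
  have hOL : L ≤ normalizer (O : Set G) :=
    le_normalizer.trans (Cfsg.Comp.le_normalizer_map_subtype _)
  have hOodd : Odd (Nat.card O) := by
    rw [hO, card_subtype]
    exact Nat.coprime_two_left.mp (H1.card_pPrimeCore_coprime 2 L).symm
  refine ⟨O, hOodd, map_subtype_le _, hOL, fun n hn => ?_⟩
  obtain ⟨x₀, hx₀, c, hc, j, hj, hnxcj⟩ := m.factorizable hLtop P ⟨n, hn⟩
  have hPT : (P : Subgroup L).map L.subtype = T := hTe.symm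
  have hinj : ∀ x ∈ (P : Subgroup L), L.subtype x = 1 → x = 1 := fun x _ h => Subtype.ext h
  have hZmap : (H10.omegaCenterOf 2 (P : Subgroup L)).map L.subtype = H10.omegaCenterOf 2 T := by
    rw [H10.map_omegaCenterOf L.subtype hinj, hPT]
  have hJmap : (Cfsg.thompsonSubgroupOf 2 (P : Subgroup L)).map L.subtype =
      Cfsg.thompsonSubgroupOf 2 T := by
    rw [H10.map_thompsonSubgroupOf L.subtype hinj, hPT]
  have hcK : (c : G) ∈ K := by
    refine hC (le_centralizer_iff.mp (?_ : H10.omegaCenterOf 2 (S : Subgroup G) ≤ _) (mem_zpowers (c : G)))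
    refine (closure_le _).mpr ?_
    rintro z ⟨⟨hzS, hzC⟩, hz2⟩
    refine mem_centralizer_iff.mpr fun y hy => ?_
    obtain ⟨i, rfl⟩ := mem_zpowers_iff.mp hy
    refine (Commute.zpow_left ?_ i).eq
    have hzT : z ∈ T := ⟨hzS, centralizer_le_normalizer _ (centralizer_le hRS hzC)⟩
    have hzW : z ∈ H10.omegaCenterOf 2 T :=
      subset_closure ⟨⟨hzT, centralizer_le hTS hzC⟩, hz2⟩
    rw [← hZmap] at hzW
    obtain ⟨z', hz', rfl⟩ := hzW
    exact (congrArg Subtype.val (mem_centralizer_iff.mp hc z' hz')).symm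
  have hjN : (j : G) ∈ normalizer (Cfsg.thompsonSubgroupOf 2 T : Set G) := by
    rw [← hJmap]
    exact le_normalizer_map L.subtype ⟨j, hj, rfl⟩
  obtain ⟨o₃, ho₃, y, hy, hjy⟩ : ∃ o ∈ O, ∃ y ∈ L ⊓ K, (j : G) = o * y := by
    by_cases hne : T = (S : Subgroup G)
    · rw [hne] at hjN
      exact ⟨1, one_mem _, j, ⟨j.2, hJ hjN⟩, (one_mul _).symm⟩
    obtain ⟨O₁, hO₁, -, hNO₁, hfac₁⟩ := hfun hne (Cfsg.thompsonSubgroupOf 2 T)
      ((map_subtype_le _).trans hTS) (thompsonSubgroupOf_two_ne_bot hTp hT1)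
      (H1.normalizer_le_normalizer_thompsonSubgroupOf 2 T)
    obtain ⟨o₁, ho₁, x, hx, hjx⟩ := hfac₁ _ hjN
    have hTO₁ : T ≤ normalizer (O₁ : Set G) :=
      (le_normalizer.trans (H1.normalizer_le_normalizer_thompsonSubgroupOf 2 T)).trans hNO₁
    set R₂ := R.map (MulAut.conj x).toMonoidHom with hR₂
    obtain ⟨o, ho, hoR⟩ := exists_conj_eq (K := K) (R₂ := R₂) hO₁ hRp (hRT.trans hTO₁) (hRS.trans hSK)
      (by
        rintro _ ⟨r, hr, rfl⟩
        exact mul_mem (mul_mem (mem_inf.mp hx).2 (hSK (hRS hr))) (inv_mem (mem_inf.mp hx).2))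
      (by
        rintro _ ⟨r, hr, rfl⟩
        show x * r * x⁻¹ ∈ R ⊔ O₁
        rw [show x = o₁⁻¹ * j by rw [hjx, inv_mul_cancel_left],
          show o₁⁻¹ * (j : G) * r * (o₁⁻¹ * (j : G))⁻¹ = o₁⁻¹ * ((j : G) * r * (j : G)⁻¹) * o₁ by group]
        exact mul_mem (mul_mem (mem_sup_right (inv_mem ho₁))
          (mem_sup_left ((mem_normalizer_iff.mp j.2 r).mp hr))) (mem_sup_right ho₁))
      (hRp.map _) (card_map_of_injective (MulAut.conj x).injective)
    have hyL : o * x ∈ L := by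
      refine Cfsg.Comp.mem_normalizer_of_map_conj_eq ?_
      refine eq_of_le_of_card_ge ?_ (card_map_of_injective (MulAut.conj (o * x)).injective).ge
      rintro _ ⟨r, hr, rfl⟩
      have := hoR _ ⟨r, hr, rfl⟩
      simpa [mul_assoc] using this
    refine ⟨(j : G) * (o * x)⁻¹, ?_, o * x, ⟨hyL, mul_mem (mem_inf.mp ho).2 (mem_inf.mp hx).2⟩,
      by group⟩
    have hmem : (j : G) * (o * x)⁻¹ ∈ O₁ := by
      rw [show (j : G) * (o * x)⁻¹ = o₁ * o⁻¹ by rw [hjx]; group]
      exact mul_mem ho₁ (inv_mem (mem_inf.mp ho).1)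
    have hmL : (j : G) * (o * x)⁻¹ ∈ L := mul_mem j.2 (inv_mem hyL)
    have hD := le_core P (D := O₁.subgroupOf L) ?_ ?_
    · exact ⟨⟨_, hmL⟩, hD (mem_subgroupOf.mpr hmem), rfl⟩
    · refine hO₁.of_dvd_nat ?_
      rw [← card_subtype L (O₁.subgroupOf L), subgroupOf_map_subtype]
      exact card_dvd_of_le inf_le_left
    · intro t ht
      have htO := mem_normalizer_iff.mp (hTO₁ (hPT ▸ ⟨t, ht, rfl⟩ : (t : G) ∈ T))
      exact mem_normalizer_iff.mpr fun d => by
        simpa [mem_subgroupOf] using htO (d : G)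
  refine ⟨(x₀ : G) * ((c : G) * o₃ * (c : G)⁻¹), mul_mem ⟨x₀, hx₀, rfl⟩
    ((mem_normalizer_iff.mp (hOL c.2) o₃).mp ho₃), (c : G) * y,
    ⟨mul_mem c.2 (mem_inf.mp hy).1, mul_mem hcK (mem_inf.mp hy).2⟩, ?_⟩
  have e : n = (x₀ : G) * c * j := congrArg Subtype.val hnxcj
  rw [e, hjy]
  group

/-- `C(Ω₁(Z(S)))` cannot contain `N(J(S))`. -/
theorem Min.not_normalizer_le (m : Min p G) (S : Sylow 2 G) (hS : (S : Subgroup G) ≠ ⊥)
    (hJ : normalizer (Cfsg.thompsonSubgroupOf 2 (S : Subgroup G) : Set G) ≤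
      centralizer (H10.omegaCenterOf 2 (S : Subgroup G) : Set G)) : False := by
  haveI := Fact.mk Nat.prime_two
  set K := centralizer (H10.omegaCenterOf 2 (S : Subgroup G) : Set G) with hK
  have hfac := m.factor S (K := K) le_rfl hJ
  have hfus : H6.FusionIn (S : Subgroup G) K := by
    refine H6.fusionIn_of_full S K ⊥ bot_le fun T _ hTS _ n hn => ?_
    by_cases hT1 : T = ⊥
    · exact ⟨1, one_mem _, fun t ht => by rw [hT1, Subgroup.mem_bot] at ht; simp [ht]⟩
    obtain ⟨O, hO, hON, hNO, hdec⟩ := hfac T hTS hT1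
    obtain ⟨o, ho, x, hx, rfl⟩ := hdec n hn
    refine ⟨x, (mem_inf.mp hx).2, fun t ht => ?_⟩
    have hxt : x * t * x⁻¹ ∈ T := (mem_normalizer_iff.mp (mem_inf.mp hx).1 t).mp ht
    calc o * x * t * (o * x)⁻¹ = o * (x * t * x⁻¹) * o⁻¹ := by group
      _ = x * t * x⁻¹ := by
          rw [(commute_odd hO (S.2.to_le hTS) hON (le_normalizer.trans hNO) ho hxt).eq,
            mul_inv_cancel_right]
  haveI : Nontrivial (S : Subgroup G) := (nontrivial_iff_ne_bot _).mpr hS
  haveI := S.2.center_nontrivial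
  obtain ⟨k, hk, hcard⟩ := (S.2.to_subgroup (center (S : Subgroup G))).nontrivial_iff_card.mp inferInstance
  obtain ⟨z, hz⟩ := exists_prime_orderOf_dvd_card' (G := center (S : Subgroup G)) 2
    (hcard ▸ dvd_pow_self 2 hk.ne')
  set z' : G := ((z : (S : Subgroup G)) : G) with hz'
  have hz2 : orderOf z' = 2 := by
    rw [hz', Subgroup.orderOf_coe, Subgroup.orderOf_coe]; exact hz
  have hzZ : z' ∈ H10.omegaCenterOf 2 (S : Subgroup G) := subset_closure ⟨⟨(z : (S : Subgroup G)).2,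
    fun s hs => congrArg Subtype.val (mem_center_iff.mp z.2 ⟨s, hs⟩)⟩, hz2 ▸ pow_orderOf_eq_one z'⟩
  have hiso : ∀ g : G, g * z' * g⁻¹ ∈ S → g * z' * g⁻¹ = z' := by
    intro g hg
    have hle : zpowers z' ≤ (S : Subgroup G).comap (MulAut.conj g).toMonoidHom := zpowers_le.mpr hg
    obtain ⟨x, hx, hxe⟩ := hfus (zpowers z') (zpowers_le.mpr (z : (S : Subgroup G)).2) g
      fun w hw => hle hw
    rw [hxe z' (mem_zpowers z'), ← mem_centralizer_iff.mp hx z' hzZ, mul_inv_cancel_right]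
  have hN := H85.zStar (H85.isolated_of_sylow S hz2 (z : (S : Subgroup G)).2 hiso)
  haveI := m.simple
  haveI := H1.pPrimeCore_normal' 2 G
  rcases (inferInstance : (Cfsg.pPrimeCore 2 G).Normal).eq_bot_or_eq_top with h | h
  · have hcen : z' ∈ center G := mem_center_iff.mpr fun g => by
      have h1 := hN g
      rw [h, Subgroup.mem_bot] at h1
      exact (mul_inv_eq_iff_eq_mul.mp (mul_inv_eq_one.mp h1)).symm
    rw [m.center_eq_bot, Subgroup.mem_bot] at hcen
    rw [hcen, orderOf_one] at hz2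
    omega
  · have h1 := H1.card_pPrimeCore_coprime 2 G
    rw [h, card_top] at h1
    exact (Nat.prime_two.coprime_iff_not_dvd.mp h1.symm) (hz2 ▸ orderOf_dvd_natCard z')

end H9.NilHall
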