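import Cfsg.Agent.H9.CoresTrivial.Main
import Cfsg.Agent.H9.SFreeGroup
import Cfsg.Agent.H9.SolBalance
import Cfsg.Agent.H16.OddOrder
import Cfsg.Agent.H7.SFT.Consequences
import Cfsg.Agent.H9.NilHall.Local

/-!
A normal elementary abelian subgroup of order eight of a Sylow 2-subgroup gives a strongly embedded
subgroup containing that Sylow subgroup.
-/

set_option autoImplicit false
set_option linter.style.haveILetI false
set_option linter.unusedSectionVars false

namespace H9.NilHall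

open Subgroup H9.CoresTrivial

universe u

variable {G : Type u} [Group G] [Finite G]

/-- Either the cores of the involution centralizers are trivial, or there is a strongly embedded
subgroup over the Sylow 2-subgroup. -/
theorem cores_trivial_or_embedded
    (hodd : ∀ (X : Type u) [Group X] [Finite X], Odd (Nat.card X) → Group.IsSolvable X)
    (hSFT : ∀ θ : G → Subgroup G, H7.CompleteSolvableFunctors 2 θ)
    (hcons : ∀ z : G, orderOf z = 2 → Cfsg.IsPConstrained 2 ↥(centralizer ({z} : Set G)))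
    (hO : Cfsg.oddCore G = ⊥) (S : Sylow 2 G) {U : Subgroup G} (hUS : U ≤ (S : Subgroup G))
    (hSU : (S : Subgroup G) ≤ normalizer (U : Set G)) (hU : Cfsg.IsElementaryAbelian 2 U)
    (h8 : 8 ≤ Nat.card U) :
    (∀ t : G, orderOf t = 2 → Cfsg.centralizerPPrimeCore 2 t = ⊥) ∨
      ∃ M : Subgroup G, (S : Subgroup G) ≤ M ∧ Cfsg.IsStronglyEmbedded M := by
  haveI := Fact.mk Nat.prime_two
  obtain ⟨W, hWodd, hW⟩ := H80.exists_signalizer hodd hSFT hcons S.2 hSU hU h8
  have hAS := fun {x : G} (hx : x ∈ (S : Subgroup G)) (h2 : orderOf x = 2) =>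
    exists_elemAb_in hUS hSU hU h8 hx h2
  have hθW : ∀ x ∈ (S : Subgroup G), orderOf x = 2 → Cfsg.centralizerPPrimeCore 2 x ≤ W := by
    intro x hx h2
    obtain ⟨A, hA, hA8, hxA, hAS'⟩ := hAS hx h2
    rw [(hW A hAS' (not_pRankLE_one hA (by omega))).1]
    exact le_iSup (fun b : {b : G // b ∈ A ∧ b ≠ 1} => Cfsg.centralizerPPrimeCore 2 (b : G))
      ⟨x, hxA, fun e => by simp [e] at h2⟩
  have hzp : ∀ {x : G}, orderOf x = 2 → IsPGroup 2 (Subgroup.zpowers x) := fun {x} hx =>
    IsPGroup.of_card (n := 1) (by rw [Nat.card_zpowers, hx, pow_one])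
  by_cases hWbot : W = ⊥
  · left
    intro t ht
    obtain ⟨g, hg⟩ := H86.exists_conj_le_sylow S (hzp ht)
    have := le_bot_iff.1 (hWbot ▸ hθW _ (hg t (Subgroup.mem_zpowers t))
      (by rw [H9.CoresTrivial.orderOf_conj, ht]))
    have h' := centralizerPPrimeCore_conj_eq_bot g⁻¹ this
    simpa [mul_assoc] using h'
  right
  set M := normalizer (W : Set G) with hM
  have hSrank : ¬ Cfsg.PRankLE 2 1 ↥(S : Subgroup G) :=
    Cfsg.Agent.H9.not_pRankLE_of_elemAb hU hUS (by rw [pow_one]; omega)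
  have hSM : (S : Subgroup G) ≤ M := le_normalizer.trans (hW _ le_rfl hSrank).2
  have hWM : W ≤ M := le_normalizer
  have hSin : H82.SylowIn 2 (S : Subgroup G) M :=
    (H82.sylow_sylowIn_top S).of_le hSM le_top
  have hne : M ≠ ⊤ := by
    intro e
    haveI : W.Normal := Subgroup.normalizer_eq_top_iff.1 e
    exact hWbot (le_bot_iff.1 (hO ▸ H1.le_pPrimeCore (Nat.coprime_two_right.2 hWodd)))
  -- four-groups control membership in `M`
  have hKL : ∀ (B : Subgroup G) (g : G), Cfsg.IsElementaryAbelian 2 B → 4 ≤ Nat.card B → B ≤ M →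
      B.map (MulAut.conj g).toMonoidHom ≤ M → g ∈ M := by
    intro B g hB h4 hBM hgBM
    have hBp : IsPGroup 2 B := H7.elemAb_isPGroup hB
    obtain ⟨m, hm, hm'⟩ := hSin.exists_conj_le hBp hBM
    obtain ⟨n, hn, hn'⟩ := hSin.exists_conj_le (hBp.map _) hgBM
    set h := n * g * m⁻¹ with hh
    set B₁ := B.map (MulAut.conj m).toMonoidHom with hB₁
    have e1 : B₁.map (MulAut.conj h).toMonoidHom ≤ (S : Subgroup G) := by
      rw [hB₁, ← H82.map_conj_mul, show h * m = n * g by simp [hh, mul_assoc], H82.map_conj_mul]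
      exact hn'
    have hB₁e : Cfsg.IsElementaryAbelian 2 B₁ := Cfsg.Agent.H9.elemAb_map _ hB
    have hB₁4 : 4 ≤ Nat.card B₁ := by rw [hB₁, H82.card_map_conj]; exact h4
    have hW1 := (hW B₁ hm' (not_pRankLE_one hB₁e hB₁4)).1
    have hW2 := (hW _ e1 (not_pRankLE_one (Cfsg.Agent.H9.elemAb_map _ hB₁e)
      (by rw [H82.card_map_conj]; exact hB₁4))).1
    have hhM : h ∈ M := by
      refine H82.mem_normalizer_of_map_le ?_
      conv_lhs => rw [hW1, Subgroup.map_iSup]
      refine iSup_le fun b => ?_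
      rw [← H7.centralizerPPrimeCore_conj_eq]
      conv_rhs => rw [hW2]
      exact le_iSup_of_le (ι := {c : G // c ∈ B₁.map (MulAut.conj h).toMonoidHom ∧ c ≠ 1})
        ⟨h * b * h⁻¹, ⟨b, b.2.1, rfl⟩, by simpa using b.2.2⟩ le_rfl
    have hg' := mul_mem (mul_mem (inv_mem hn) hhM) hm
    simpa [hh, mul_assoc] using hg'
  -- involution centralizers lie in `M`
  have hCS : ∀ t ∈ (S : Subgroup G), orderOf t = 2 → centralizer ({t} : Set G) ≤ M := by
    intro t htS ht
    obtain ⟨A, hA, hA8, htA, hA'⟩ := hAS htS ht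
    set X := centralizer ({t} : Set G) with hX
    have hAX : A ≤ X := fun a ha =>
      mem_centralizer_singleton_iff.2 (H7.comm_of_isElementaryAbelian hA a ha t htA)
    have hAp : IsPGroup 2 A := H7.elemAb_isPGroup hA
    obtain ⟨P, hP, hAP⟩ := H82.exists_sylowIn_ge hAp (le_inf hAX (hA'.trans hSM))
    have hPX : H82.SylowIn 2 P X := by
      obtain ⟨R, hR, hPR⟩ := H82.exists_sylowIn_ge hP.isPGroup (hP.le.trans inf_le_left)
      rcases eq_or_lt_of_le hPR with e | hlt
      · exact e ▸ hR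
      exfalso
      have hgt := H82.exists_normalizer_gt hR.isPGroup hlt
      refine hgt.ne' (hP.eq_of_le (hR.isPGroup.to_le inf_le_left) ?_ hgt.le)
      intro g hg
      refine ⟨hR.le (Subgroup.mem_inf.1 hg).1, ?_⟩
      have hPM : P ≤ M := hP.le.trans inf_le_right
      refine hKL A g hA (by omega) (hA'.trans hSM) ((Subgroup.map_mono hAP).trans ?_)
      rw [H82.mem_normalizer_iff_map.1 (Subgroup.mem_inf.1 hg).2]
      exact hPM
    obtain ⟨P', hP'⟩ := hPX.exists_sylow
    have hPP : ∀ {y : X}, y ∈ (P' : Subgroup X) → (y : G) ∈ P := fun {y} hy => hP' ▸ ⟨y, hy, rfl⟩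
    have htX : t ∈ X := mem_centralizer_singleton_iff.2 rfl
    have hcenter : (⟨t, htX⟩ : X) ∈ Subgroup.center X := Subgroup.mem_center_iff.2 fun c =>
      Subtype.ext (mem_centralizer_singleton_iff.1 c.2)
    have hAsub : A.subgroupOf X ≤ (P' : Subgroup X) := by
      intro a ha
      have h1 : (a : G) ∈ (P' : Subgroup X).map X.subtype := hP'.symm ▸ hAP ha
      obtain ⟨y, hy, hya⟩ := h1
      exact (Subtype.ext hya : y = a) ▸ hy
    have htop := eq_top_of_control (hcons t ht) P' (t := ⟨t, htX⟩)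
      (by rw [Subgroup.orderOf_mk]; exact ht) hcenter (A := A.subgroupOf X)
      (H7.isElementaryAbelian_of_comm
        (fun a ha b hb => Subtype.ext (H7.comm_of_isElementaryAbelian hA a ha b hb))
        fun a ha => Subtype.ext (hA.2 a ha))
      (by rw [Cfsg.Comp.card_subgroupOf hAX]; exact hA8) hAsub htA (M.subgroupOf X)
      (Subgroup.map_le_iff_le_comap.1 ((hθW t htS ht).trans hWM))
      (fun y hy => (hP.le (hPP hy)).2)
      (fun B g hB h4 hBP hgB => by
        refine hKL (B.map X.subtype) g (Cfsg.Agent.H9.elemAb_map _ hB)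
          (by rw [Cfsg.Comp.card_map_subtype]; exact h4) ?_ ?_
        · rintro _ ⟨y, hy, rfl⟩
          exact (hP.le (hPP (hBP hy))).2
        · rintro _ ⟨_, ⟨y, hy, rfl⟩, rfl⟩
          exact (hP.le (hPP (hgB ⟨y, hy, rfl⟩))).2)
    exact Subgroup.subgroupOf_eq_top.1 htop
  have hC : ∀ t ∈ M, orderOf t = 2 → centralizer ({t} : Set G) ≤ M := by
    intro t htM ht
    obtain ⟨m, hm, hm'⟩ := hSin.exists_conj_le (hzp ht) (Subgroup.zpowers_le.2 htM)
    exact centralizer_conj_le hm (hCS _ (hm' ⟨t, Subgroup.mem_zpowers t, rfl⟩)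
      (by rw [orderOf_conj, ht]))
  have heven : Even (Nat.card M) := by
    refine even_iff_two_dvd.2 (dvd_trans ?_ (Subgroup.card_dvd_of_le (hUS.trans hSM)))
    obtain ⟨k, hk⟩ := IsPGroup.iff_card.mp (H7.elemAb_isPGroup hU)
    rcases k with _ | k
    · rw [hk] at h8; simp at h8
    · rw [hk, pow_succ']; exact dvd_mul_right 2 _
  have hSE : Cfsg.IsStronglyEmbedded M := by
    refine (H65.se_iff hne heven).2 fun t g ht htM hg => ?_
    obtain ⟨m, hm, hm'⟩ := hSin.exists_conj_le (hzp ht) (Subgroup.zpowers_le.2 htM)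
    obtain ⟨A, hA, hA8, hxA, hA'⟩ :=
      hAS (hm' ⟨t, Subgroup.mem_zpowers t, rfl⟩) (by rw [MulEquiv.coe_toMonoidHom]; exact (orderOf_conj m t).trans ht)
    set B := A.map (MulAut.conj m⁻¹).toMonoidHom with hB
    have hBM : B ≤ M := H82.map_conj_le_of_mem (inv_mem hm) (hA'.trans hSM)
    have htB : t ∈ B := by
      rw [hB, H82.mem_map_conj_iff]
      simpa [mul_assoc] using hxA
    have hBe : Cfsg.IsElementaryAbelian 2 B := Cfsg.Agent.H9.elemAb_map _ hA
    have hgB : B.map (MulAut.conj g⁻¹).toMonoidHom ≤ M := by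
      refine le_trans ?_ (hC _ hg (by
        have := orderOf_conj g⁻¹ t
        rw [inv_inv] at this
        exact this.trans ht))
      rintro _ ⟨b, hb, rfl⟩
      refine mem_centralizer_singleton_iff.2 ?_
      have hc := H7.comm_of_isElementaryAbelian hBe b hb t htB
      show g⁻¹ * b * g⁻¹⁻¹ * (g⁻¹ * t * g) = g⁻¹ * t * g * (g⁻¹ * b * g⁻¹⁻¹)
      calc g⁻¹ * b * g⁻¹⁻¹ * (g⁻¹ * t * g) = g⁻¹ * (b * t) * g := by group
        _ = g⁻¹ * (t * b) * g := by rw [hc]
        _ = g⁻¹ * t * g * (g⁻¹ * b * g⁻¹⁻¹) := by group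
    have := hKL B g⁻¹ hBe (by rw [hB, H82.card_map_conj]; omega) hBM hgB
    simpa using inv_mem this
  exact ⟨M, hSM, hSE⟩

/-- In the minimal configuration there is a strongly embedded subgroup over `S`. -/
theorem Min.exists_embedded {p : ℕ} (m : Min p G) (S : Sylow 2 G) {U : Subgroup G}
    (hUS : U ≤ (S : Subgroup G)) (hSU : (S : Subgroup G) ≤ normalizer (U : Set G))
    (hU : Cfsg.IsElementaryAbelian 2 U) (h8 : 8 ≤ Nat.card U) :
    ∃ M : Subgroup G, (S : Subgroup G) ≤ M ∧ Cfsg.IsStronglyEmbedded M := by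
  haveI := Fact.mk Nat.prime_two
  haveI := m.simple
  have hS1 : (S : Subgroup G) ≠ ⊥ := by
    intro h
    rw [h, le_bot_iff] at hUS
    rw [hUS, card_bot] at h8
    omega
  have htop : ∀ {H : Subgroup G}, H.Normal → H ≠ ⊤ → H = ⊥ := fun {H} hH hne =>
    (hH.eq_bot_or_eq_top).resolve_right hne
  have hSne : ∀ H : Subgroup G, IsPGroup 2 H → H ≠ ⊤ := by
    rintro H hH rfl
    haveI : Group.IsNilpotent G := (hH.of_equiv (topEquiv : (⊤ : Subgroup G) ≃* G)).isNilpotent
    exact m.nonsol inferInstance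
  have hsolC : ∀ z : G, orderOf z = 2 → Group.IsSolvable (centralizer ({z} : Set G)) := fun z hz =>
    m.sol _ (m.centralizer_ne_top fun h => by rw [h, orderOf_one] at hz; omega)
  have hcons : ∀ z : G, orderOf z = 2 → Cfsg.IsPConstrained 2 ↥(centralizer ({z} : Set G)) := by
    intro z hz
    haveI := hsolC z hz
    exact H10.isPConstrained_of_isPSolvable H10.isPSolvable_of_isSolvable
  have hO : Cfsg.oddCore G = ⊥ := by
    refine htop (H1.pPrimeCore_normal' 2 G) fun h => ?_
    have hc := H1.card_pPrimeCore_coprime 2 G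
    change Cfsg.pPrimeCore 2 G = ⊤ at h
    rw [h, card_top] at hc
    have hS2 := S.2.card_eq_or_dvd.resolve_left fun h1 => hS1 (card_eq_one.mp h1)
    exact (Nat.prime_two.coprime_iff_not_dvd.mp hc.symm)
      (hS2.trans (S : Subgroup G).card_subgroup_dvd_card)
  rcases cores_trivial_or_embedded H16.FT.oddOrderSolvable
    (fun θ => H7.SFT.completeSolvableFunctors θ) hcons hO S hUS hSU hU h8 with hθ | h
  swap
  · exact h
  have hO2 : Cfsg.pCore 2 G = ⊥ :=
    htop (H1.pCore_normal' 2 G) (hSne _ (H1.isPGroup_pCore 2 G))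
  have hloc : ∀ M : Subgroup G, Cfsg.IsTwoLocal M → Group.IsSolvable M ∧
      Cfsg.IsOfCharacteristicTwo ↥M ∧ ¬ Cfsg.Involves (Equiv.Perm (Fin 4)) ↥M := by
    rintro M ⟨Q, hQ, hQ1, rfl⟩
    have hMtop : normalizer (Q : Set G) ≠ ⊤ := m.normalizer_ne_top hQ1 (hSne Q hQ)
    haveI := m.sol _ hMtop
    refine ⟨inferInstance, ?_, fun h => m.not_involves_s4 (H6.Involves.of_subgroup _ h)⟩
    set M := normalizer (Q : Set G) with hM
    haveI := H1.pPrimeCore_normal' 2 M
    haveI := H1.pPrimeCore_characteristic 2 M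
    set D := (Cfsg.pPrimeCore 2 M).map M.subtype with hD
    have hDodd : Odd (Nat.card D) := by
      rw [hD, card_subtype]
      exact Nat.coprime_two_left.mp (H1.card_pPrimeCore_coprime 2 M).symm
    have hMD : M ≤ normalizer (D : Set G) :=
      le_normalizer.trans (Cfsg.Comp.le_normalizer_map_subtype _)
    haveI : Nontrivial Q := (nontrivial_iff_ne_bot Q).mpr hQ1
    haveI := hQ.center_nontrivial
    obtain ⟨k, hk, hcard⟩ := (hQ.to_subgroup (center Q)).nontrivial_iff_card.mp inferInstance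
    obtain ⟨z, hz⟩ := exists_prime_orderOf_dvd_card' (G := center Q) 2 (hcard ▸ dvd_pow_self 2 hk.ne')
    set t : G := ((z : Q) : G) with ht
    have ht2 : orderOf t = 2 := by rw [ht, Subgroup.orderOf_coe, Subgroup.orderOf_coe]; exact hz
    set H := centralizer ({t} : Set G) with hH
    have hQH : Q ≤ H := fun x hx => mem_centralizer_singleton_iff.mpr
      (congrArg Subtype.val (mem_center_iff.mp z.2 ⟨x, hx⟩))
    have hDQ : ∀ d ∈ D, ∀ q ∈ Q, Commute d q := fun d hd q hq =>
      commute_odd hDodd hQ (map_subtype_le _) (le_normalizer.trans hMD) hd hq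
    have hDH : D ≤ H := fun d hd => mem_centralizer_singleton_iff.mpr (hDQ d hd t (z : Q).2).eq
    haveI := hsolC t ht2
    have hle := Cfsg.Agent.H9.le_pPrimeCore_of_pSolvable (p := 2) (H := H) (H10.isPSolvable_of_isSolvable)
      (R := Q.subgroupOf H) (D := D.subgroupOf H) hQ.comap_subtype
      (by
        intro h
        rw [Nat.card_congr (subgroupOfEquivOfLe hDH).toEquiv] at h
        exact (Nat.not_even_iff_odd.mpr hDodd) (even_iff_two_dvd.mpr h))
      (fun d hd => mem_centralizer_iff.mpr fun q hq =>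
        Subtype.ext (hDQ _ (mem_subgroupOf.mp hd) _ (mem_subgroupOf.mp hq)).symm)
      (fun c hc => mem_normalizer_iff.mpr fun d => by
        have hcM : (c : G) ∈ M := centralizer_le_normalizer _ (mem_centralizer_iff.mpr fun q hq =>
          congrArg Subtype.val (mem_centralizer_iff.mp hc ⟨q, hQH hq⟩ (mem_subgroupOf.mpr hq)))
        simpa [mem_subgroupOf] using mem_normalizer_iff.mp (hMD hcM) (d : G))
    have hDbot : D = ⊥ := by
      refine le_bot_iff.mp (hθ t ht2 ▸ ?_)
      intro d hd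
      exact ⟨⟨d, hDH hd⟩, hle (mem_subgroupOf.mpr hd), rfl⟩
    exact H10.centralizer_pCore_le H10.isPSolvable_of_isSolvable
      ((map_eq_bot_iff_of_injective _ M.subtype_injective).mp hDbot)
  obtain ⟨K, -, hse, hall⟩ := Cfsg.Agent.H9.SFree.exists_stronglyEmbedded hO2 hloc S hS1
  exact ⟨K, le_normalizer.trans (hall (S : Subgroup G) le_rfl hS1), hse⟩

end H9.NilHall
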