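import Cfsg.Agent.H9.NilHall.Count
import Cfsg.Agent.H9.NilHall.Fusion
import Cfsg.Agent.H9.NilHall.Signalizer

/-!
A group in which the subgroups of order prime to `p > 3` are nilpotent is soluble.
-/

set_option autoImplicit false
set_option linter.style.haveILetI false
set_option linter.unusedSectionVars false

namespace H9.NilHall

open Subgroup Cfsg

universe u

variable {G : Type u} [Group G] [Finite G] {p : ℕ}

/-- An element of odd order normalizing a 2-subgroup of order at most four centralizes it. -/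
theorem Min.centralize_small (m : Min p G) {A : Subgroup G} (hA : IsPGroup 2 A) (h4 : Nat.card A ≤ 4)
    {y : G} (hy : y ∈ normalizer (A : Set G)) (hodd : Odd (orderOf y)) :
    y ∈ centralizer (A : Set G) := by
  haveI := Fact.mk Nat.prime_two
  haveI := Fact.mk Nat.prime_three
  set f := A.normalizerMonoidHom with hf
  suffices h1 : f ⟨y, hy⟩ = 1 by
    have h2 : (⟨y, hy⟩ : normalizer (A : Set G)) ∈ f.ker := h1
    rw [hf, normalizerMonoidHom_ker] at h2
    exact h2
  set d := orderOf (f ⟨y, hy⟩) with hd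
  have hdy : d ∣ orderOf y := (orderOf_map_dvd _ _).trans (dvd_of_eq (Subgroup.orderOf_mk y hy))
  have h24 : d ∣ 2 ^ 3 * 3 := by
    have hinj : Function.Injective (MulAut.toPerm (↥A)) := fun a b h => MulEquiv.ext (Equiv.congr_fun h)
    have h1 := (orderOf_dvd_natCard (f ⟨y, hy⟩)).trans (card_dvd_of_injective _ hinj)
    rw [Nat.card_perm] at h1
    exact h1.trans (Nat.factorial_dvd_factorial h4)
  have hd3 : d ∣ 3 :=
    (((Nat.coprime_two_left.mpr (hodd.of_dvd_nat hdy)).pow_left 3).symm).dvd_of_dvd_mul_left h24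
  rcases (Nat.dvd_prime Nat.prime_three).mp hd3 with h | h
  · exact orderOf_eq_one_iff.mp h
  exfalso
  set n := orderOf y with hn
  set m' := n / 3 ^ n.factorization 3 with hm'
  have hm3 : Nat.Coprime 3 m' := Nat.coprime_ordCompl Nat.prime_three (orderOf_pos y).ne'
  have hpow : orderOf (y ^ m') ∣ 3 ^ n.factorization 3 := by
    refine orderOf_dvd_of_pow_eq_one ?_
    rw [← pow_mul, hm', Nat.div_mul_cancel (Nat.ordProj_dvd n 3), hn, pow_orderOf_eq_one]
  have hp := m.five
  obtain ⟨i, hi⟩ := IsPGroup.iff_card.mp hA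
  have hcen : y ^ m' ∈ centralizer (A : Set G) := mem_centralizer_iff.mpr fun a ha =>
    (m.nil.commute (R := A) (y := y ^ m')
      (hi ▸ ((Nat.coprime_primes Nat.prime_two m.hp).mpr m.ne_two.symm).pow_left i)
      ((((Nat.coprime_primes Nat.prime_three m.hp).mpr (by omega)).pow_left _).coprime_dvd_left hpow)
      (hi ▸ (((Nat.coprime_primes Nat.prime_two Nat.prime_three).mpr (by omega)).pow i _).coprime_dvd_right hpow)
      (pow_mem hy _) ha).eq
  have h5 : (⟨y, hy⟩ : normalizer (A : Set G)) ^ m' ∈ f.ker := by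
    rw [hf, normalizerMonoidHom_ker]
    exact hcen
  rw [MonoidHom.mem_ker, map_pow, ← orderOf_dvd_iff_pow_eq_one, ← hd, h] at h5
  exact Nat.prime_three.coprime_iff_not_dvd.mp hm3 h5

/-- There is no minimal configuration. -/
theorem Min.contra (m : Min p G) : False := by
  haveI := Fact.mk Nat.prime_two
  obtain ⟨S⟩ : Nonempty (Sylow 2 G) := inferInstance
  have hS1 : (S : Subgroup G) ≠ ⊥ := by
    intro h
    refine m.nonsol (H16.FT.oddOrderSolvable G (Nat.odd_iff.mpr (Nat.two_dvd_ne_zero.mp fun h2 => ?_)))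
    have h3 := S.not_dvd_index
    rw [h, index_bot] at h3
    exact h3 h2
  set J := Cfsg.thompsonSubgroupOf 2 (S : Subgroup G) with hJ
  have hJS : J ≤ (S : Subgroup G) := map_subtype_le _
  set A := H10.omegaCenterOf 2 J with hA
  have hAe : Cfsg.IsElementaryAbelian 2 A :=
    H10.omegaOne_elementaryAbelian fun x hx y hy => mem_centralizer_iff.mp hy.2 x hx.1
  have hAJ : A ≤ J := (H10.omegaOne_le _).trans inf_le_left
  have hAN : normalizer (J : Set G) ≤ normalizer (A : Set G) :=
    Cfsg.Agent.H9.SFree.normalizer_le_zOne J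
  have hSJ : (S : Subgroup G) ≤ normalizer (J : Set G) :=
    le_normalizer.trans (H1.normalizer_le_normalizer_thompsonSubgroupOf 2 _)
  by_cases h8 : 8 ≤ Nat.card A
  · obtain ⟨M, hSM, hM⟩ := m.exists_embedded S (hAJ.trans hJS) (hSJ.trans hAN) hAe h8
    haveI : Finite A := inferInstance
    obtain ⟨a, b, ha, hb, hne⟩ : ∃ a b : A, a ≠ 1 ∧ b ≠ 1 ∧ a ≠ b := by
      classical
      haveI := Fintype.ofFinite A
      have h1 : 1 < ((Finset.univ : Finset A).erase 1).card := by
        rw [Finset.card_erase_of_mem (Finset.mem_univ _), Finset.card_univ, ← Nat.card_eq_fintype_card]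
        omega
      obtain ⟨a, ha, b, hb, hab⟩ := Finset.one_lt_card.mp h1
      exact ⟨a, b, (Finset.mem_erase.mp ha).1, (Finset.mem_erase.mp hb).1, hab⟩
    have hord : ∀ c : A, c ≠ 1 → orderOf (c : G) = 2 := fun c hc =>
      orderOf_eq_prime (hAe.2 c c.2) fun e => hc (Subtype.ext e)
    exact (SE.mk m hM ⟨a, b, hSM (hJS (hAJ a.2)), hSM (hJS (hAJ b.2)), hord a ha, hord b hb,
      (H7.comm_of_isElementaryAbelian hAe a a.2 b b.2), fun e => hne (Subtype.ext e)⟩).contra
  · have h4 : Nat.card A ≤ 4 := by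
      obtain ⟨i, hi⟩ := IsPGroup.iff_card.mp (H7.elemAb_isPGroup hAe)
      rw [hi] at h8 ⊢
      exact Nat.pow_le_pow_right two_pos (show i ≤ 2 by
        by_contra hc
        exact h8 (Nat.pow_le_pow_right two_pos (show 3 ≤ i by omega)))
    have hZA : H10.omegaCenterOf 2 (S : Subgroup G) ≤ A := by
      refine (closure_le _).mpr ?_
      rintro z ⟨⟨hzS, hzC⟩, hz2⟩
      obtain ⟨E, hE⟩ := H11.maxFam_nonempty
        (P := fun A : Subgroup G => Cfsg.IsElementaryAbelian 2 A)
        (⟨inferInstance, fun a ha => by rw [Subgroup.mem_bot.mp ha, one_pow]⟩) (S : Subgroup G)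
      have hzE : z ∈ E := H11.mem_of_commute_maxFam_elem hE hzS hz2 fun e he =>
        mem_centralizer_iff.mp hzC e (hE.1 he)
      refine subset_closure ⟨⟨?_, centralizer_le hJS hzC⟩, hz2⟩
      rw [hJ, H11.thompsonSubgroupOf_eq]
      exact le_sSup (α := Subgroup G) hE hzE
    refine m.not_normalizer_le S hS1 ?_
    set N := normalizer (J : Set G) with hN
    set C := centralizer (H10.omegaCenterOf 2 (S : Subgroup G) : Set G) with hC
    rw [← subgroupOf_eq_top, ← index_eq_one]
    by_contra hne
    obtain ⟨q, hq, hqd⟩ := Nat.exists_prime_and_dvd hne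
    haveI := Fact.mk hq
    by_cases hq2 : q = 2
    · subst hq2
      refine (S.subtype hSJ).not_dvd_index (hqd.trans (index_dvd_of_le fun x hx => ?_))
      exact mem_subgroupOf.mpr (le_centralizer_iff.mp
        ((H10.omegaOne_le _).trans inf_le_right) hx)
    · obtain ⟨Q⟩ : Nonempty (Sylow q N) := inferInstance
      refine Q.not_dvd_index (hqd.trans (index_dvd_of_le fun x hx => ?_))
      refine mem_subgroupOf.mpr (centralizer_le hZA (m.centralize_small (H7.elemAb_isPGroup hAe) h4
        (hAN x.2) ?_))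
      obtain ⟨i, hi⟩ := Q.2 ⟨x, hx⟩
      have h1 : orderOf (x : G) ∣ q ^ i := by
        rw [Subgroup.orderOf_coe]
        exact orderOf_dvd_of_pow_eq_one (congrArg Subtype.val hi)
      exact Odd.of_dvd_nat ((hq.odd_of_ne_two hq2).pow) h1

theorem isSolvable_aux : ∀ n : ℕ, ∀ (G : Type u) [Group G] [Finite G], Nat.card G = n →
    ∀ p : ℕ, p.Prime → 5 ≤ p → Nil p G → Group.IsSolvable G := by
  intro n
  induction n using Nat.strong_induction_on with
  | _ n ih =>
  intro G _ _ hn p hp h5 hnil
  subst hn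
  by_contra hns
  rcases subsingleton_or_nontrivial G with h | h
  · exact hns inferInstance
  have hsol : ∀ H : Subgroup G, H ≠ ⊤ → Group.IsSolvable H := fun H hH =>
    ih _ (lt_of_le_of_ne (card_le_card_group H) fun e => hH (eq_top_of_card_eq H e)) H rfl p hp h5
      (hnil.subgroup H)
  have hsimple : IsSimpleGroup G := by
    refine ⟨fun N hN => ?_⟩
    by_contra hc
    push Not at hc
    haveI := hN
    haveI := hsol N hc.2
    haveI : Group.IsSolvable (G ⧸ N) := ih _ (H10.card_quotient_lt N hc.1) (G ⧸ N) rfl p hp h5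
      (hnil.of_surjective hp _ (QuotientGroup.mk'_surjective N))
    exact hns (solvable_of_ker_le_range N.subtype (QuotientGroup.mk' N) (by
      rw [QuotientGroup.ker_mk', range_subtype]))
  exact (Min.mk hp h5 hnil hsimple hns hsol).contra

end H9.NilHall
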