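import Cfsg.Agent.H9.NilHall.Basic
import Cfsg.Agent.H67.SECount
import Cfsg.Agent.H71.HallSCN
import Cfsg.Agent.H70.SL2Facts
import Cfsg.Agent.H2.FixedGen.Basic
import Cfsg.Agent.H10.PSolvable
import Cfsg.Agent.H6.FusionZJ
import Cfsg.Agent.H33.TwoPrime
import Cfsg.Agent.CompBasic

/-!
A minimal insoluble group whose subgroups of order prime to `p` are nilpotent.
-/

set_option autoImplicit false
set_option linter.style.haveILetI false
set_option linter.unusedSectionVars false

namespace H9.NilHall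

open Subgroup Cfsg

universe u

/-- The minimal configuration. -/
structure Min (p : ℕ) (G : Type u) [Group G] : Prop where
  hp : p.Prime
  five : 5 ≤ p
  nil : Nil p G
  simple : IsSimpleGroup G
  nonsol : ¬ Group.IsSolvable G
  sol : ∀ H : Subgroup G, H ≠ ⊤ → Group.IsSolvable H

variable {G : Type u} [Group G] [Finite G] {p : ℕ}

theorem Min.ne_two (m : Min p G) : p ≠ 2 := by have := m.five; omega

theorem Min.center_eq_bot (m : Min p G) : center G = ⊥ := by
  haveI := m.simple
  rcases (inferInstance : (center G).Normal).eq_bot_or_eq_top with h | h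
  · exact h
  · refine absurd ?_ m.nonsol
    exact Group.isSolvable_of_comm fun a b =>
      (mem_center_iff.mp (h ▸ mem_top a : a ∈ center G) b).symm

theorem Min.centralizer_ne_top (m : Min p G) {x : G} (hx : x ≠ 1) :
    centralizer ({x} : Set G) ≠ ⊤ := by
  intro h
  have h1 : x ∈ center G := mem_center_iff.mpr fun y =>
    mem_centralizer_singleton_iff.mp (h ▸ mem_top y)
  rw [m.center_eq_bot, Subgroup.mem_bot] at h1
  exact hx h1

theorem Min.normalizer_ne_top (m : Min p G) {H : Subgroup G} (h1 : H ≠ ⊥) (h2 : H ≠ ⊤) :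
    normalizer (H : Set G) ≠ ⊤ := by
  intro h
  haveI := m.simple
  rcases (normalizer_eq_top_iff.mp h : H.Normal).eq_bot_or_eq_top with h' | h'
  · exact h1 h'
  · exact h2 h'

theorem Min.dvd_card (m : Min p G) : p ∣ Nat.card G := by
  by_contra h
  refine m.nonsol ?_
  haveI := m.nil ⊤ (by rw [card_top]; exact ((m.hp.coprime_iff_not_dvd).mpr h).symm)
  haveI : Group.IsNilpotent G :=
    Group.nilpotent_of_surjective (topEquiv : (⊤ : Subgroup G) ≃* G).toMonoidHom
      (topEquiv : (⊤ : Subgroup G) ≃* G).surjective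
  infer_instance

theorem Min.not_involves_sl2 (m : Min p G) :
    ¬ Cfsg.Involves (Matrix.SpecialLinearGroup (Fin 2) (ZMod p)) G := by
  haveI := Fact.mk m.hp
  haveI := m.simple
  have hp := m.five
  rintro ⟨K, R, hn, ⟨e⟩⟩
  haveI := hn
  have hperf := H70.sl2_perfect (F := ZMod p) (by rw [ZMod.card]; omega)
  haveI : Nontrivial (Matrix.SpecialLinearGroup (Fin 2) (ZMod p)) :=
    ⟨⟨⟨!![1, 1; 0, 1], by simp [Matrix.det_fin_two]⟩, 1, fun h => by
      have := congrFun (congrFun (congrArg Subtype.val h) 0) 1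
      simp at this⟩⟩
  set f : ↥K →* Matrix.SpecialLinearGroup (Fin 2) (ZMod p) :=
    e.toMonoidHom.comp (QuotientGroup.mk' (R.subgroupOf K))
  have hf : Function.Surjective f := e.surjective.comp (QuotientGroup.mk'_surjective _)
  by_cases hK : K = ⊤
  · subst hK
    set g : G →* Matrix.SpecialLinearGroup (Fin 2) (ZMod p) :=
      f.comp Subgroup.topEquiv.symm.toMonoidHom
    have hg : Function.Surjective g := hf.comp Subgroup.topEquiv.symm.surjective
    rcases (inferInstance : g.ker.Normal).eq_bot_or_eq_top with h | h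
    · obtain ⟨z, hz⟩ := hg (-1)
      have hinj := (MonoidHom.ker_eq_bot_iff g).mp h
      have hzc : z ∈ center G := mem_center_iff.mpr fun a => hinj (by
        rw [map_mul, map_mul, hz]
        ext i j
        simp)
      rw [m.center_eq_bot, Subgroup.mem_bot] at hzc
      rw [hzc, map_one] at hz
      have h1 := congrFun (congrFun (congrArg Subtype.val hz) 0) 0
      simp at h1
      have h2 : ((2 : ℕ) : ZMod p) = 0 := by push_cast; linear_combination h1
      rw [ZMod.natCast_eq_zero_iff] at h2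
      have := Nat.le_of_dvd (by omega) h2
      omega
    · obtain ⟨a, b, hab⟩ := exists_pair_ne (Matrix.SpecialLinearGroup (Fin 2) (ZMod p))
      obtain ⟨x, rfl⟩ := hg a
      obtain ⟨y, rfl⟩ := hg b
      have hx : ∀ w, g w = 1 := fun w => MonoidHom.mem_ker.mp (h ▸ mem_top w)
      exact hab ((hx x).trans (hx y).symm)
  · haveI := m.sol K hK
    haveI : Group.IsSolvable (Matrix.SpecialLinearGroup (Fin 2) (ZMod p)) :=
      Group.isSolvable_of_surjective hf
    exact (Group.IsSolvable.commutator_lt_top_of_nontrivial _).ne hperf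

/-- A strongly embedded subgroup with two commuting involutions. -/
structure SE (p : ℕ) (G : Type u) [Group G] (X : Subgroup G) : Prop extends Min p G where
  se : Cfsg.IsStronglyEmbedded X
  four : ∃ a b : G, a ∈ X ∧ b ∈ X ∧ orderOf a = 2 ∧ orderOf b = 2 ∧ a * b = b * a ∧ a ≠ b

variable {X : Subgroup G}

theorem SE.sol_X (s : SE p G X) : Group.IsSolvable X := s.sol X s.se.1

/-- A proper subgroup containing two commuting involutions of `X` lies in `X`. -/
theorem SE.le_of_four (s : SE p G X) {Y : Subgroup G} (hY : Y ≠ ⊤) {a b : G} (ha : orderOf a = 2)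
    (hb : orderOf b = 2) (haY : a ∈ Y) (hbY : b ∈ Y) (haX : a ∈ X) (hbX : b ∈ X)
    (hab : a * b = b * a) (hne : a ≠ b) : Y ≤ X := by
  haveI := Fact.mk Nat.prime_two
  haveI : Group.IsSolvable Y := s.sol Y hY
  have ha2 : a * a = 1 := H67.invol_sq ha
  have hb2 : b * b = 1 := H67.invol_sq hb
  set V := closure ({a, b} : Set G) with hV
  have hVc : IsMulCommutative V := by
    refine isMulCommutative_closure ?_
    rintro x (rfl | rfl) y (rfl | rfl) <;> first | rfl | exact hab | exact hab.symm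
  have hVcomm : ∀ x ∈ V, ∀ y ∈ V, x * y = y * x := fun x hx y hy =>
    congrArg Subtype.val (hVc.is_comm.comm ⟨x, hx⟩ ⟨y, hy⟩)
  have hV2 : ∀ x ∈ V, x * x = 1 := by
    intro x hx
    induction hx using closure_induction with
    | mem x hx => rcases hx with rfl | rfl <;> assumption
    | one => exact one_mul 1
    | mul x y hx hy h1 h2 =>
      calc x * y * (x * y) = x * (y * x) * y := by group
        _ = x * (x * y) * y := by rw [hVcomm y hy x hx]
        _ = x * x * (y * y) := by group
        _ = 1 := by rw [h1, h2, one_mul]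
    | inv x _ h1 => rw [← mul_inv_rev, h1, inv_one]
  have hVp : IsPGroup 2 V := fun x => ⟨1, Subtype.ext (by
    rw [pow_one]; show ((x : G)) ^ 2 = 1; rw [pow_two]; exact hV2 x x.2)⟩
  have hVY : V ≤ Y := (closure_le Y).mpr (by rintro x (rfl | rfl) <;> assumption)
  have hVX : V ≤ X := (closure_le X).mpr (by rintro x (rfl | rfl) <;> assumption)
  haveI := H1.pPrimeCore_normal' 2 Y
  haveI := H1.pPrimeCore_characteristic 2 Y
  set Oc := Cfsg.pPrimeCore 2 Y with hOcd
  set O := Oc.map Y.subtype with hO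
  have hOodd : Odd (Nat.card O) := by
    rw [hO, card_subtype]
    exact Nat.coprime_two_left.mp (H1.card_pPrimeCore_coprime 2 Y).symm
  have hOX : O ≤ X := by
    refine H2.FixedGen.le_of_fixed_cycQ hVcomm hVp O ⊥ hOodd ?_ bot_le ?_ ?_
    · exact hVY.trans (le_normalizer.trans (Cfsg.Comp.le_normalizer_map_subtype Oc))
    · intro x _ y hy; rw [Subgroup.mem_bot.mp hy]; simp
    · rintro V' ⟨hV'V, g, hg, hgen⟩ x ⟨-, hx⟩
      by_cases hV' : V' = ⊥
      · exfalso
        have hgg : ∀ z ∈ V, z = 1 ∨ z = g := by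
          intro z hz
          obtain ⟨i, hi⟩ := hgen z hz
          rw [hV', Subgroup.mem_bot, inv_mul_eq_one] at hi
          have hg2 : g ^ (2 : ℤ) = 1 := by rw [zpow_two, hV2 g hg]
          rcases Int.even_or_odd i with ⟨l, hl⟩ | ⟨l, hl⟩
          · left; rw [← hi, hl, ← two_mul, zpow_mul, hg2, one_zpow]
          · right; rw [← hi, hl, zpow_add, zpow_mul, hg2, one_zpow, one_mul, zpow_one]
        rcases hgg a (subset_closure (by simp)) with h | h
        · rw [h, orderOf_one] at ha; omega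
        rcases hgg b (subset_closure (by simp)) with h' | h'
        · rw [h', orderOf_one] at hb; omega
        exact hne (h.trans h'.symm)
      · obtain ⟨⟨v, hv⟩, hv1⟩ := ne_bot_iff_exists_ne_one.mp hV'
        have hv' : v ≠ 1 := fun h => hv1 (Subtype.ext h)
        exact H67.se_centralizer_mem s.se (orderOf_eq_prime (by rw [pow_two, hV2 v (hV'V hv)]) hv')
          (hVX (hV'V hv)) (hx v hv).symm
  -- the Sylow subgroup through the four group lies in `X`
  obtain ⟨P, hP⟩ := (hVp.of_equiv (subgroupOfEquivOfLe hVY).symm).exists_le_sylow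
  have haP : (⟨a, haY⟩ : Y) ∈ (P : Subgroup Y) :=
    hP (mem_subgroupOf.mpr (subset_closure (by simp)))
  haveI : Nontrivial (P : Subgroup Y) := ⟨⟨⟨⟨a, haY⟩, haP⟩, 1, fun h => by
    have h' : a = 1 := congrArg (fun z : (P : Subgroup Y) => ((z : Y) : G)) h
    rw [h', orderOf_one] at ha; omega⟩⟩
  haveI := P.2.center_nontrivial
  obtain ⟨c, hc⟩ : ∃ c : center (P : Subgroup Y), orderOf c = 2 := by
    obtain ⟨k, hk, hcard⟩ := (P.2.to_subgroup (center (P : Subgroup Y))).nontrivial_iff_card.mp ‹_›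
    exact exists_prime_orderOf_dvd_card' 2 (hcard ▸ dvd_pow_self 2 hk.ne')
  set c' : G := (((c : (P : Subgroup Y)) : Y) : G) with hc'
  have hc2 : orderOf c' = 2 := by
    rw [hc', Subgroup.orderOf_coe, Subgroup.orderOf_coe, Subgroup.orderOf_coe]; exact hc
  have hcc : ∀ z : (P : Subgroup Y), Commute ((z : Y) : G) c' := fun z => by
    have h1 := mem_center_iff.mp c.2 z
    exact congrArg (fun w : (P : Subgroup Y) => ((w : Y) : G)) h1
  have hcX : c' ∈ X := H67.se_centralizer_mem s.se ha haX (hcc ⟨⟨a, haY⟩, haP⟩).symm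
  have hPX : (P : Subgroup Y).map Y.subtype ≤ X := by
    rintro _ ⟨x, hx, rfl⟩
    exact H67.se_centralizer_mem s.se hc2 hcX (hcc ⟨x, hx⟩)
  set T := Cfsg.pCore 2 (Y ⧸ Oc) with hT
  haveI hTn : T.Normal := H1.pCore_normal' 2 _
  haveI hnt : Nontrivial (Y ⧸ Oc) := by
    refine QuotientGroup.nontrivial_iff.mpr fun h => ?_
    have h1 : a ∈ O := ⟨⟨a, haY⟩, h ▸ mem_top _, rfl⟩
    have h2 : orderOf a ∣ Nat.card O := O.orderOf_dvd_natCard h1
    rw [ha] at h2
    exact (Nat.not_even_iff_odd.mpr hOodd) (even_iff_two_dvd.mpr h2)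
  have hTne : T ≠ ⊥ := by
    rcases H10.pCore_or_pPrimeCore_ne_bot (p := 2) (H10.isPSolvable_of_isSolvable (G := Y ⧸ Oc)) with
      h | h
    · exact h
    · exact absurd H10.pPrimeCore_quotient_pPrimeCore h
  set Tc := T.comap (QuotientGroup.mk' Oc) with hTc
  have hTX : Tc.map Y.subtype ≤ X := by
    have h1 : Tc ≤ (P : Subgroup Y) ⊔ Oc := by
      have h2 : T ≤ (P : Subgroup Y).map (QuotientGroup.mk' Oc) := by
        have := (H1.isPGroup_pCore 2 (Y ⧸ Oc)).le_sylow_of_normal
          (P.mapSurjective (QuotientGroup.mk'_surjective Oc))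
        simpa using this
      calc Tc ≤ ((P : Subgroup Y).map (QuotientGroup.mk' Oc)).comap (QuotientGroup.mk' Oc) :=
            comap_mono h2
        _ = _ := by rw [comap_map_eq, QuotientGroup.ker_mk']
    exact (map_mono h1).trans (by rw [Subgroup.map_sup]; exact sup_le hPX hOX)
  have hTeven : 2 ∣ Nat.card Tc := by
    haveI : Nontrivial T := (nontrivial_iff_ne_bot T).mpr hTne
    obtain ⟨n, hn, hcard⟩ := (H1.isPGroup_pCore 2 (Y ⧸ Oc)).nontrivial_iff_card.mp ‹_›
    have h1 : Nat.card T ∣ Nat.card Tc := by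
      refine card_dvd_of_surjective
        (((QuotientGroup.mk' Oc).comp Tc.subtype).codRestrict T fun x => x.2) fun z => ?_
      obtain ⟨x, hx⟩ := QuotientGroup.mk'_surjective Oc z.1
      exact ⟨⟨x, by rw [hTc, mem_comap, hx]; exact z.2⟩, Subtype.ext hx⟩
    exact (hcard ▸ dvd_pow_self 2 hn.ne').trans h1
  obtain ⟨⟨t, ht⟩, htord⟩ := exists_prime_orderOf_dvd_card' 2 hTeven
  have htG : orderOf (t : G) = 2 := by
    rw [← htord, ← Subgroup.orderOf_coe, ← Subgroup.orderOf_coe]
  intro y hy
  have h3 : (y : G) * t * y⁻¹ ∈ X :=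
    hTX ⟨⟨y, hy⟩ * t * ⟨y, hy⟩⁻¹, (Subgroup.Normal.comap hTn _).conj_mem t ht _, rfl⟩
  have := H65.se_conj_mem s.se (g := y⁻¹) htG (hTX ⟨t, ht, rfl⟩) (by rw [inv_inv]; exact h3)
  simpa using inv_mem this

/-- A subgroup of `X` with two commuting involutions bounds the centralizer of what it centralizes. -/
theorem SE.centralizer_le (s : SE p G X) {c : G} (hc : c ≠ 1) {a b : G} (ha : orderOf a = 2)
    (hb : orderOf b = 2) (haX : a ∈ X) (hbX : b ∈ X) (hab : a * b = b * a) (hne : a ≠ b)
    (hac : Commute a c) (hbc : Commute b c) {g : G} (hg : Commute g c) : g ∈ X :=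
  s.le_of_four (s.centralizer_ne_top hc) ha hb (mem_centralizer_singleton_iff.mpr hac.eq)
    (mem_centralizer_singleton_iff.mpr hbc.eq) haX hbX hab hne
    (mem_centralizer_singleton_iff.mpr hg.eq)

/-- An element of `X` inverted by an involution outside `X`, with at least two candidates. -/
theorem SE.exists_inverted (s : SE p G X) {u : G} (hu : orderOf u = 2) (huX : u ∉ X) :
    ∃ z ∈ X, z ≠ 1 ∧ u * z * u⁻¹ = z⁻¹ := by
  obtain ⟨a, b, haX, hbX, ha, hb, -, hne⟩ := s.four
  haveI : Finite (H67.involIn X) := Subtype.finite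
  haveI : Finite (H67.involTo X u) := Subtype.finite
  have h1 : 1 < Nat.card (H67.involTo X u) := by
    rw [H67.card_involTo s.se huX, Finite.one_lt_card_iff_nontrivial]
    exact ⟨⟨⟨a, ha, haX⟩, ⟨b, hb, hbX⟩, fun h => hne (congrArg Subtype.val h)⟩⟩
  haveI hnt : Nontrivial (H67.involTo X u) := Finite.one_lt_card_iff_nontrivial.mp h1
  let u₀ : H67.involTo X u := ⟨u, hu, by rw [inv_mul_cancel]; exact one_mem X⟩
  obtain ⟨⟨i, hi, hiu⟩, hne'⟩ := @exists_ne _ hnt u₀
  have hu' := inv_eq_of_mul_eq_one_right (H67.invol_sq hu)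
  have hi' := inv_eq_of_mul_eq_one_right (H67.invol_sq hi)
  refine ⟨u * i, by rw [← hu']; simpa using hiu, fun h => hne' (Subtype.ext ?_), ?_⟩
  · show i = u
    rw [← hu']; exact eq_inv_of_mul_eq_one_right h
  · rw [mul_inv_rev, hi', hu', ← mul_assoc u u i, H67.invol_sq hu, one_mul]

/-- An element of `X` inverted from outside `X` has order a power of `p`. -/
theorem SE.inverted_ppow (s : SE p G X) {u z : G} (hu : orderOf u = 2) (huX : u ∉ X) (hz : z ∈ X)
    (hinv : u * z * u⁻¹ = z⁻¹) : ∃ k : ℕ, orderOf z = p ^ k := by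
  refine s.nil.inverted_ppow s.hp s.ne_two hu ?_ hinv
  rw [← Nat.not_even_iff_odd, even_iff_two_dvd]
  intro h
  have h1 : z ≠ 1 := fun h1 => by rw [h1, orderOf_one] at h; omega
  refine H67.se_inverted_no_invol s.se hu huX hz h1 hinv (t := z ^ (orderOf z / 2)) ?_
    (pow_mem hz _) ((Commute.refl z).pow_left _)
  rw [orderOf_pow_of_dvd (by have := orderOf_pos z; omega) (Nat.div_dvd_of_dvd h),
    Nat.div_div_self h (orderOf_pos z).ne']

end H9.NilHall
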